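import Groth.Agent.R1F.Pts
import Mathlib.Algebra.DualNumber

/-!
# The functional equation and its derivative
-/

set_option autoImplicit false
set_option linter.style.haveILetI false
set_option backward.isDefEq.respectTransparency false
set_option maxHeartbeats 1000000
set_option synthInstance.maxHeartbeats 400000

universe u

open CategoryTheory Limits MonoidalCategory CartesianMonoidalCategory AlgebraicGeometry TrivSqZeroExt
open scoped CategoryTheory.Obj MonObj

noncomputable section

namespace Groth.Agent.R1F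

open Groth.Agent.DynPar LieS

/-- A map of rings applied to dual numbers. -/
def dmap {A B : Type u} [CommRing A] [CommRing B] (φ : A →+* B) : DualNumber A →+* DualNumber B where
  toFun p := inl (φ p.fst) + inr (φ p.snd)
  map_one' := by ext <;> simp
  map_zero' := by ext <;> simp
  map_add' p q := by ext <;> simp
  map_mul' p q := by ext <;> simp <;> ring

/-- Rescaling the infinitesimal. -/
def dscale {A : Type u} [CommRing A] (r : A) : DualNumber A →+* DualNumber A where
  toFun p := inl p.fst + inr (r * p.snd)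
  map_one' := by ext <;> simp
  map_zero' := by ext <;> simp
  map_add' p q := by ext <;> simp [mul_add]
  map_mul' p q := by ext <;> simp <;> ring

theorem dual_ext {A : Type u} [CommRing A] {p q : DualNumber A} (h1 : p.fst = q.fst) (h2 : p.snd = q.snd) : p = q :=
  TrivSqZeroExt.ext h1 h2

variable {S : Scheme.{u}} {G T : Over S} [GrpObj G] [GrpObj T] (D : Setup G T)

namespace Setup

variable {A B : Type u} [CommRing A] [CommRing B] {f : Spec (CommRingCat.of A) ⟶ S}
  {g : Spec (CommRingCat.of B) ⟶ S}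

/-- The dual numbers over a test object. -/
abbrev fε (f : Spec (CommRingCat.of A) ⟶ S) : Spec (CommRingCat.of (DualNumber A)) ⟶ S :=
  Spec.map (CommRingCat.ofHom (inlHom A A)) ≫ f

/-- The inverse of the positive component of `pp 1 * pm z`. -/
def IsF (f : Spec (CommRingCat.of A) ⟶ S) (z w : A) : Prop := ∃ a t h, D.Dec f 1 z a t h ∧ h * w = 1

variable {D}

theorem Dec.dvd {x y a b : A} {t : pt A f ⟶ T} (h : D.Dec f x y a t b) : x ∣ b := by
  let φ := Ideal.Quotient.mk (Ideal.span {x})
  have hx : φ x = 0 := Ideal.Quotient.eq_zero_iff_mem.2 (Ideal.mem_span_singleton_self x)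
  have h1 := h.qm' φ (g := Spec.map (CommRingCat.ofHom φ) ≫ f) rfl
  rw [hx] at h1
  have h2 := (h1.uniq (Dec.zero_left _)).2.2
  exact Ideal.mem_span_singleton.1 (Ideal.Quotient.eq_zero_iff_mem.1 h2)

theorem Dec.isUnit_of_one {z a b : A} {t : pt A f ⟶ T} (h : D.Dec f 1 z a t b) : IsUnit b := by
  have h' : D.Dec f 1 (z + -z) 0 1 1 := by rw [add_neg_cancel]; exact Dec.zero_right 1
  exact isUnit_of_dvd_one (h.right_to h').dvd

theorem exists_isF {z : A} (h : D.Good f 1 z) : ∃ w, D.IsF f z w := by
  obtain ⟨a, t, b, h⟩ := h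
  obtain ⟨u, rfl⟩ := h.isUnit_of_one
  exact ⟨↑u⁻¹, a, t, u, h, Units.mul_inv u⟩

theorem IsF.good {z w : A} (h : D.IsF f z w) : D.Good f 1 z := by
  obtain ⟨a, t, b, h, -⟩ := h
  exact h.good

theorem IsF.isUnit {z w : A} (h : D.IsF f z w) : IsUnit w := by
  obtain ⟨a, t, b, -, hw⟩ := h
  exact IsUnit.of_mul_eq_one_right b hw

theorem IsF.uniq {z w w' : A} (h : D.IsF f z w) (h' : D.IsF f z w') : w = w' := by
  obtain ⟨a, t, b, hd, hw⟩ := h
  obtain ⟨a', t', b', hd', hw'⟩ := h'
  obtain rfl := (hd.uniq hd').2.2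
  calc w = w * (b * w') := by rw [hw', mul_one]
    _ = w' := by rw [← mul_assoc, mul_comm w b, hw, one_mul]

theorem IsF.qm (φ : A →+* B) (hφ : Spec.map (CommRingCat.ofHom φ) ≫ f = g) {z w : A} (h : D.IsF f z w) :
    D.IsF g (φ z) (φ w) := by
  obtain ⟨a, t, b, hd, hw⟩ := h
  refine ⟨φ a, DynPar.qm φ hφ ≫ t, φ b, ?_, by rw [← map_mul, hw, map_one]⟩
  have := hd.qm' φ hφ
  rwa [map_one] at this

theorem isF_zero : D.IsF f 0 1 := ⟨0, 1, 1, Dec.zero_right 1, one_mul 1⟩

/-- **The functional equation.** -/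
theorem IsF.step {z w u v : A} (h : D.IsF f z w) (h' : D.IsF f u v) : D.IsF f (z + u * w) (w * v) := by
  obtain ⟨a, t, b, hd, hw⟩ := h
  obtain ⟨a', t', b', hd', hv⟩ := h'
  let r : Aˣ := Units.mkOfMulEqOne b w hw
  have h1 := hd'.scale r
  have e1 : (↑r⁻¹ : A) = w := Units.inv_eq_of_mul_eq_one_right hw
  have e2 : (r : A) = b := rfl
  rw [e1, e2, mul_one, mul_comm w u] at h1
  exact ⟨_, _, _, hd.right_of h1, by linear_combination (b' * v) * hw + hv⟩

theorem specMap_fst (f : Spec (CommRingCat.of A) ⟶ S) :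
    Spec.map (CommRingCat.ofHom (fstHom A A A).toRingHom) ≫ fε f = f := by
  rw [fε, ← Category.assoc, ← Spec.map_comp, ← CommRingCat.ofHom_comp,
    show (fstHom A A A).toRingHom.comp (inlHom A A) = RingHom.id A from RingHom.ext fun a => fst_inl A a]
  simp

theorem specMap_dmap (φ : A →+* B) (hφ : Spec.map (CommRingCat.ofHom φ) ≫ f = g) :
    Spec.map (CommRingCat.ofHom (dmap φ)) ≫ fε f = fε g := by
  rw [fε, fε, ← hφ, ← Category.assoc, ← Category.assoc, ← Spec.map_comp, ← Spec.map_comp, ← CommRingCat.ofHom_comp,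
    ← CommRingCat.ofHom_comp]
  congr 3
  exact RingHom.ext fun a => by ext <;> simp [dmap]

theorem specMap_dscale (r : A) (f : Spec (CommRingCat.of A) ⟶ S) :
    Spec.map (CommRingCat.ofHom (dscale r)) ≫ fε f = fε f := by
  rw [fε, ← Category.assoc, ← Spec.map_comp, ← CommRingCat.ofHom_comp]
  congr 3
  exact RingHom.ext fun a => by ext <;> simp [dscale]

theorem good_dual {x y : DualNumber A} (h : D.Good f x.fst y.fst) : D.Good (fε f) x y := by
  refine Good.of_surjective (fstHom A A A).toRingHom (specMap_fst f) (fun p => ?_) h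
  refine ⟨PrimeSpectrum.comap (inlHom A A) p, PrimeSpectrum.ext (Ideal.ext fun q => ?_)⟩
  show (inl q.fst : DualNumber A) ∈ p.asIdeal ↔ q ∈ p.asIdeal
  have hn : (inr q.snd : DualNumber A) ∈ p.asIdeal :=
    p.isPrime.mem_of_pow_mem 2 (by rw [pow_two, inr_mul_inr]; exact p.asIdeal.zero_mem)
  conv_rhs => rw [← inl_fst_add_inr_snd_eq q]
  exact (p.asIdeal.add_mem_iff_left hn).symm

theorem exists_isF_eps (f : Spec (CommRingCat.of A) ⟶ S) : ∃ w, D.IsF (fε f) (inr 1) w :=
  exists_isF (good_dual (by rw [fst_one, fst_inr]; exact ⟨_, _, _, Dec.zero_right 1⟩))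

variable (D)

/-- The constant of the rank-one system over a ring. -/
def slope (f : Spec (CommRingCat.of A) ⟶ S) : A := (exists_isF_eps (D := D) f).choose.snd

variable {D}

theorem isF_eps (f : Spec (CommRingCat.of A) ⟶ S) : D.IsF (fε f) (inr 1) (1 + inr (D.slope f)) := by
  have hw := (exists_isF_eps (D := D) f).choose_spec
  have h1 := hw.qm (fstHom A A A).toRingHom (specMap_fst f)
  have h2 : (exists_isF_eps (D := D) f).choose.fst = 1 := by
    refine IsF.uniq (D := D) (f := f) (z := (0 : A)) ?_ isF_zero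
    simpa using h1
  convert hw using 2
  ext <;> simp [slope, h2]

theorem slope_qm (φ : A →+* B) (hφ : Spec.map (CommRingCat.ofHom φ) ≫ f = g) : D.slope g = φ (D.slope f) := by
  have h := (isF_eps (D := D) f).qm (dmap φ) (specMap_dmap φ hφ)
  have e : dmap φ (inr 1) = inr 1 := by ext <;> simp [dmap]
  rw [e] at h
  have := congrArg snd ((isF_eps (D := D) g).uniq h)
  simpa [dmap] using this

/-- **The positive component is affine, up to the constant.** -/
theorem IsF.slope_mul {z w : A} (h : D.IsF f z w) : D.slope f * (w - (1 + D.slope f * z)) = 0 := by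
  set a := D.slope f with ha
  have hz : D.IsF (fε f) (inl z) (inl w) := h.qm (inlHom A A) rfl
  obtain ⟨W, hW⟩ := exists_isF (good_dual (D := D) (f := f) (x := 1) (y := inl z + inr 1)
    (by simp only [fst_one, fst_add, fst_inl, fst_inr, add_zero]; exact h.good))
  have hW1 : W.fst = w := by
    have := hW.qm (fstHom A A A).toRingHom (specMap_fst f)
    refine IsF.uniq (D := D) (f := f) (z := z) ?_ h
    simpa using this
  -- the value at a rescaled infinitesimal translate
  have key : ∀ (r : A) (V : DualNumber A), D.IsF (fε f) (inl z + inr r) V → V.snd = r * W.snd := by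
    intro r V hV
    have h' := hW.qm (dscale r) (specMap_dscale r f)
    have e : dscale r (inl z + inr 1) = inl z + inr r := by ext <;> simp [dscale]
    rw [e] at h'
    rw [hV.uniq h']
    simp [dscale]
  have h1 := hz.step (isF_eps (D := D) f)
  have h2 := (isF_eps (D := D) f).step hz
  have e1 : inl z + inr 1 * inl w = (inl z + inr w : DualNumber A) := by ext <;> simp
  have e2 : inr 1 + inl z * (1 + inr a) = (inl z + inr (1 + a * z) : DualNumber A) := by
    ext <;> simp [mul_comm]
  rw [← ha, e1] at h1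
  rw [← ha, e2] at h2
  have k1 := key _ _ h1
  have k2 := key _ _ h2
  simp at k1 k2
  have hd : W.snd = a := (h.isUnit.mul_left_cancel (by linear_combination k1)).symm
  rw [hd] at k2
  linear_combination k2

theorem IsF.eq_of_isUnit {z w : A} (h : D.IsF f z w) (ha : IsUnit (D.slope f)) : w = 1 + D.slope f * z :=
  sub_eq_zero.1 (ha.mul_right_eq_zero.1 h.slope_mul)

end Setup

end Groth.Agent.R1F
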