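import Groth.Agent.R1F.Pts
import Groth.Agent.Chev.TorusExt
import Groth.Agent.Chev.CentralMT

/-!
# Points of a torus in rings with constant units are constant
-/

set_option autoImplicit false
set_option linter.style.haveILetI false
set_option backward.isDefEq.respectTransparency false
set_option maxHeartbeats 1000000
set_option synthInstance.maxHeartbeats 400000

universe u

open CategoryTheory Limits MonoidalCategory CartesianMonoidalCategory AlgebraicGeometry
open scoped CategoryTheory.Obj MonObj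

noncomputable section

namespace Groth.Agent.R1F

open Groth.Agent.HomDiag Groth.Agent.MTBridge Groth.Agent.DynPar LieS

variable {S : Scheme.{u}} {T : Over S} [GrpObj T]

/-- A point of a torus over an algebra with constant units is trivial if it is so at a rational point. -/
theorem eq_one_of_pt (hT : Red.IsTorus T) {K : Type u} [Field K] [IsAlgClosed K]
    (f : Spec (CommRingCat.of K) ⟶ S) {R : Type u} [CommRing R] (j : K →+* R)
    (hu : ∀ u : R, IsUnit u → ∃ c, j c = u) (ψ : R →+* K) (hψ : ∀ c, ψ (j c) = c)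
    {g : Spec (CommRingCat.of K) ⟶ S}
    (hg : Spec.map (CommRingCat.ofHom ψ) ≫ Spec.map (CommRingCat.ofHom j) ≫ f = g)
    (t : pt R (Spec.map (CommRingCat.ofHom j) ≫ f) ⟶ T) (ht : qm ψ hg ≫ t = 1) : t = 1 := by
  obtain ⟨r, ⟨e⟩⟩ := Chev.exists_split_algClosed (Chev.Borel.isTorus_bc_scheme T f hT)
  let E : Red.bc f T ⟶ Red.DS _ (Fin r → ℤ) := e.hom.hom.hom
  haveI : IsMonHom E := e.hom.hom.isMonHom_hom
  haveI : IsIso E := inferInstanceAs (IsIso ((Grp.forget _).map e.hom))
  let X : Over (Spec (CommRingCat.of K)) := pt R (Spec.map (CommRingCat.ofHom j))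
  let Xk : Over (Spec (CommRingCat.of K)) :=
    pt K (Spec.map (CommRingCat.ofHom ψ) ≫ Spec.map (CommRingCat.ofHom j))
  let v : Xk ⟶ X := qm ψ rfl
  let y : X ⟶ Red.DS _ (Fin r → ℤ) := toBC f (X := X) t ≫ E
  let dn : (Over.map f).obj Xk ⟶ pt K g := Over.homMk (𝟙 _) (by
    show 𝟙 _ ≫ g = (Spec.map (CommRingCat.ofHom ψ) ≫ Spec.map (CommRingCat.ofHom j)) ≫ f
    rw [Category.id_comp, ← hg, Category.assoc])
  have hdn : (Over.map f).map v = dn ≫ qm ψ hg := Over.OverMorphism.ext (Category.id_comp _).symm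
  have hv : v ≫ y = 1 := by
    have h1 : (Over.map f).map v ≫ (t : (Over.map f).obj X ⟶ T) = 1 := by
      rw [hdn, Category.assoc]
      exact (congrArg (dn ≫ ·) ht).trans (MonObj.comp_one _)
    have h2 : toBC f (1 : (Over.map f).obj Xk ⟶ T) = 1 := by
      simp [toBC, Adjunction.homEquiv_unit, Functor.map_one, MonObj.comp_one]
    show v ≫ toBC f (X := X) t ≫ E = 1
    rw [← Category.assoc, ← toBC_natural, h1, h2, MonObj.one_comp]
  have hy : y = 1 := by
    refine ch_ext fun n => ?_
    have h1 := congrArg (fun z => ch z n) hv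
    simp only [ch_comp, ch_one] at h1
    obtain ⟨c, hc⟩ := hu ((Scheme.ΓSpecIso (CommRingCat.of R)).hom (ch y n))
      (((Group.isUnit n).map (ch y)).map (Scheme.ΓSpecIso (CommRingCat.of R)).hom.hom)
    have h3 : ch y n = Setup.tg (Spec.map (CommRingCat.ofHom j)) (j c) := by
      rw [hc]
      exact (ConcreteCategory.congr_hom (Scheme.ΓSpecIso (CommRingCat.of R)).hom_inv_id _).symm
    rw [h3] at h1 ⊢
    rw [ch_one]
    have h4 : Setup.tg (Spec.map (CommRingCat.ofHom ψ) ≫ Spec.map (CommRingCat.ofHom j)) (ψ (j c)) = 1 :=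
      (Setup.qm_tg _ ψ rfl (j c)).symm.trans h1
    rw [hψ] at h4
    rw [(RingEquiv.map_eq_one_iff _).1 h4, map_one, map_one]
  have h3 : toBC f (X := X) t = 1 := by
    rw [← cancel_mono E, MonObj.one_comp]
    exact hy
  refine toBC_injective f (X := X) ?_
  rw [h3]
  simp [toBC, Adjunction.homEquiv_unit, Functor.map_one, MonObj.comp_one]

end Groth.Agent.R1F
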