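import Groth.Agent.R1F.Deriv
import Groth.Agent.R1F.Torus
import Mathlib.RingTheory.Nullstellensatz
import Mathlib.Algebra.MvPolynomial.Funext

/-!
# The cell condition over an algebraically closed field
-/

set_option autoImplicit false
set_option linter.style.haveILetI false
set_option backward.isDefEq.respectTransparency false
set_option maxHeartbeats 1000000
set_option synthInstance.maxHeartbeats 400000

universe u

open CategoryTheory Limits MonoidalCategory CartesianMonoidalCategory AlgebraicGeometry TrivSqZeroExt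
open scoped CategoryTheory.Obj MonObj

noncomputable section

namespace Groth.Agent.R1F

open Groth.Agent.DynPar LieS

variable {S : Scheme.{u}} {G T : Over S} [GrpObj G] [GrpObj T] {D : Setup G T}

/-- Composites of test maps. -/
theorem specMap_comp' {A B C : Type u} [CommRing A] [CommRing B] [CommRing C] (φ : A →+* B) (ψ : B →+* C)
    (χ : A →+* C) (h : ψ.comp φ = χ) (f : Spec (CommRingCat.of A) ⟶ S) :
    Spec.map (CommRingCat.ofHom ψ) ≫ Spec.map (CommRingCat.ofHom φ) ≫ f = Spec.map (CommRingCat.ofHom χ) ≫ f := by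
  rw [← Category.assoc, ← Spec.map_comp, ← CommRingCat.ofHom_comp, h]

/-- A retraction of test maps. -/
theorem specMap_retract {A B : Type u} [CommRing A] [CommRing B] (φ : A →+* B) (ψ : B →+* A)
    (h : ψ.comp φ = RingHom.id A) (f : Spec (CommRingCat.of A) ⟶ S) :
    Spec.map (CommRingCat.ofHom ψ) ≫ Spec.map (CommRingCat.ofHom φ) ≫ f = f := by
  rw [specMap_comp' φ ψ _ h]
  simp

namespace Setup

/-- Translating the second variable. -/
theorem IsF.good_iff {A : Type u} [CommRing A] {f : Spec (CommRingCat.of A) ⟶ S} {z w : A} (h : D.IsF f z w)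
    (v : A) : D.Good f 1 v ↔ D.Good f 1 (z + v * w) := by
  refine ⟨fun hv => ?_, fun hv => ?_⟩
  · obtain ⟨w', hw'⟩ := exists_isF hv
    exact (h.step hw').good
  · obtain ⟨a, t, b, hd, hw⟩ := h
    obtain ⟨a', t', b', hd'⟩ := hv
    have h1 := hd.right_to hd'
    let r : Aˣ := Units.mkOfMulEqOne w b ((mul_comm w b).trans hw)
    have e1 : (↑r⁻¹ : A) = b := Units.inv_eq_of_mul_eq_one_right ((mul_comm w b).trans hw)
    have h2 := h1.scale r
    rw [e1, show (r : A) * b = 1 from (mul_comm w b).trans hw, show b * (v * w) = v by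
      linear_combination v * hw] at h2
    exact h2.good

theorem good_of_maximal {R : Type u} [CommRing R] {g : Spec (CommRingCat.of R) ⟶ S} {x y : R}
    (h : ∀ m : Ideal R, m.IsMaximal → ∃ (F : Type u) (_ : Field F) (φ : R →+* F), RingHom.ker φ = m ∧
      D.Good (Spec.map (CommRingCat.ofHom φ) ≫ g) (φ x) (φ y)) : D.Good g x y := by
  refine good_of_fields fun K' _ _ φ => ?_
  obtain ⟨m, hm, hle⟩ := Ideal.exists_le_maximal (RingHom.ker φ) (RingHom.ker_ne_top φ)
  obtain ⟨F, _, ψ, hψ, hg⟩ := h m hm
  obtain ⟨q, hq, hgood⟩ := exists_away_good ⟨m, hm.isPrime⟩ ψ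
    (PrimeSpectrum.ext ((RingHom.ker_eq_comap_bot ψ).symm.trans hψ)) hg
  have hu : IsUnit (φ q) := isUnit_iff_ne_zero.2 fun h0 => hq (hle h0)
  let χ : Localization.Away q →+* K' := IsLocalization.Away.lift q hu
  have := hgood.qm χ (g := Spec.map (CommRingCat.ofHom φ) ≫ g)
    (specMap_comp' (algebraMap R _) χ φ (IsLocalization.Away.lift_comp q hu) g)
  rwa [IsLocalization.Away.lift_eq, IsLocalization.Away.lift_eq] at this

variable {K : Type u} [Field K] [IsAlgClosed K] (f : Spec (CommRingCat.of K) ⟶ S)

/-- The line over a geometric point. -/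
abbrev fX : Spec (CommRingCat.of (Polynomial K)) ⟶ S := Spec.map (CommRingCat.ofHom Polynomial.C) ≫ f

theorem specMap_eval (z : K) : Spec.map (CommRingCat.ofHom (Polynomial.evalRingHom z)) ≫ fX f = f :=
  specMap_retract _ _ (RingHom.ext fun c => by simp) f

theorem specMap_eval_eps :
    Spec.map (CommRingCat.ofHom (Polynomial.eval₂RingHom (inlHom K K) (inr 1))) ≫ fX f = fε f :=
  specMap_comp' _ _ _ (RingHom.ext fun c => by simp) f

/-- Either everything lies in the cell, or all but one point. -/
theorem dichotomy :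
    ((∀ z, D.IsF f z 1) ∧ D.slope f = 0) ∨
      ∃ z₀ : K, (∀ z, D.Good f 1 z ↔ z ≠ z₀) ∧ D.slope f * z₀ = -1 := by
  classical
  by_cases hall : ∀ z, D.Good f 1 z
  · left
    have hR : D.Good (fX f) 1 Polynomial.X := good_of_maximal fun m hm => by
      have hne : Submodule.IsPrincipal.generator m ≠ 0 := fun h0 =>
        Ring.ne_bot_of_isMaximal_of_not_isField hm (Polynomial.not_isField K)
          ((Submodule.IsPrincipal.eq_bot_iff_generator_eq_zero m).2 h0)
      have hdeg : (Submodule.IsPrincipal.generator m).degree ≠ 0 := fun h0 =>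
        hm.ne_top (Ideal.eq_top_of_isUnit_mem _ (Submodule.IsPrincipal.generator_mem m)
          (Polynomial.isUnit_iff_degree_eq_zero.2 h0))
      obtain ⟨z, hz⟩ := IsAlgClosed.exists_root _ hdeg
      refine ⟨K, inferInstance, Polynomial.evalRingHom z, (hm.eq_of_le (RingHom.ker_ne_top _) ?_).symm, ?_⟩
      · rw [← Ideal.span_singleton_generator m, Ideal.span_le, Set.singleton_subset_iff]
        exact hz
      · rw [map_one, Polynomial.coe_evalRingHom, Polynomial.eval_X, specMap_eval]
        exact hall z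
    obtain ⟨w, hw⟩ := exists_isF hR
    obtain ⟨c, -, hc⟩ := Polynomial.isUnit_iff.1 hw.isUnit
    have hz : ∀ z, D.IsF f z c := fun z => by
      have := hw.qm (Polynomial.evalRingHom z) (specMap_eval f z)
      simpa [← hc] using this
    have hc1 : c = 1 := (hz 0).uniq isF_zero
    refine ⟨fun z => hc1 ▸ hz z, ?_⟩
    have h1 := hw.qm (Polynomial.eval₂RingHom (inlHom K K) (inr 1)) (specMap_eval_eps f)
    rw [Polynomial.coe_eval₂RingHom, Polynomial.eval₂_X, ← hc, Polynomial.eval₂_C, hc1, map_one] at h1
    simpa using congrArg snd ((isF_eps f).uniq h1)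
  · right
    push Not at hall
    obtain ⟨z₀, hz₀⟩ := hall
    have h0 : D.Good (Spec.map (CommRingCat.ofHom (Polynomial.evalRingHom (0 : K))) ≫ fX f)
        (Polynomial.evalRingHom (0 : K) 1) (Polynomial.evalRingHom (0 : K) Polynomial.X) := by
      rw [map_one, Polynomial.coe_evalRingHom, Polynomial.eval_X, specMap_eval]
      exact ⟨_, _, _, Dec.zero_right 1⟩
    obtain ⟨q, hq0, hqg⟩ :=
      exists_away_good (PrimeSpectrum.comap (Polynomial.evalRingHom (0 : K)) ⟨⊥, Ideal.isPrime_bot⟩) _ rfl h0
    replace hq0 : q.eval 0 ≠ 0 := fun h => hq0 (show Polynomial.evalRingHom (0 : K) q ∈ (⊥ : Ideal K) from h)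
    rw [map_one] at hqg
    obtain ⟨w, hw⟩ := exists_isF hqg
    let L := Localization.Away q
    have hev : ∀ z, q.eval z ≠ 0 → ∃ χ : L →+* K, (∀ p : Polynomial K, χ (algebraMap _ L p) = p.eval z) ∧
        D.IsF f z (χ w) := fun z hz => by
      have hu : IsUnit (Polynomial.evalRingHom z q) := isUnit_iff_ne_zero.2 hz
      refine ⟨IsLocalization.Away.lift (S := L) q hu, fun p => IsLocalization.Away.lift_eq q hu p, ?_⟩
      have := hw.qm (IsLocalization.Away.lift (S := L) q hu) (g := f)
        ((specMap_comp' _ _ (Polynomial.evalRingHom z) (IsLocalization.Away.lift_comp q hu) (fX f)).trans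
          (specMap_eval f z))
      rwa [IsLocalization.Away.lift_eq, Polynomial.coe_evalRingHom, Polynomial.eval_X] at this
    have hq : q ≠ 0 := fun h => hq0 (by rw [h, Polynomial.eval_zero])
    have hbad : ∀ v, ¬ D.Good f 1 v → v ∈ q.roots.toFinset := fun v hv => by
      rw [Multiset.mem_toFinset, Polynomial.mem_roots hq]
      by_contra hne
      exact hv (hev v hne).choose_spec.2.good
    have huniq : ∀ v, ¬ D.Good f 1 v → v = z₀ := by
      intro v hv
      by_contra hne
      refine (inferInstance : Infinite K).not_finite (Set.finite_univ_iff.1 ?_)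
      let W : K → K := fun z => if h : D.Good f 1 z then (exists_isF h).choose else 0
      have hW : ∀ z, D.Good f 1 z → D.IsF f z (W z) := fun z h => by
        simp only [W, dif_pos h]; exact (exists_isF h).choose_spec
      have hfin : ({z | D.Good f 1 z} : Set K).Finite := by
        refine Set.Finite.of_finite_image (f := fun z => (z + v * W z, z + z₀ * W z))
          ((q.roots.toFinset ×ˢ q.roots.toFinset).finite_toSet.subset ?_) ?_
        · rintro _ ⟨z, hz, rfl⟩
          exact Finset.mem_product.2 ⟨hbad _ fun h => hv (((hW z hz).good_iff v).2 h),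
            hbad _ fun h => hz₀ (((hW z hz).good_iff z₀).2 h)⟩
        · intro a _ b _ hab
          simp only [Prod.mk.injEq] at hab
          have hWab : W a = W b := mul_left_cancel₀ (sub_ne_zero.2 hne) (by linear_combination hab.1 - hab.2)
          linear_combination hab.2 - z₀ * hWab
      refine (hfin.union q.roots.toFinset.finite_toSet).subset fun z _ => ?_
      by_cases hz : D.Good f 1 z
      · exact Or.inl hz
      · exact Or.inr (hbad z hz)
    refine ⟨z₀, fun z => ⟨fun h e => hz₀ (e ▸ h), fun h => by_contra fun hn => h (huniq z hn)⟩, ?_⟩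
    have hpt : ∀ z (wz : K), D.IsF f z wz → z + z₀ * wz = z₀ := fun z wz h =>
      huniq _ fun hg => hz₀ ((h.good_iff z₀).2 hg)
    let e : L := algebraMap _ L (Polynomial.C z₀) * w + algebraMap _ L (Polynomial.X - Polynomial.C z₀)
    have he : e = 0 := by
      obtain ⟨⟨p, s⟩, hp⟩ := IsLocalization.surj (Submonoid.powers q) e
      have hpq : p * q = 0 := Polynomial.funext fun z => by
        rw [Polynomial.eval_mul, Polynomial.eval_zero]
        rcases eq_or_ne (q.eval z) 0 with h | h
        · rw [h, mul_zero]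
        obtain ⟨χ, hχ, hF⟩ := hev z h
        rw [← hχ p, ← hp, map_mul]
        have : χ e = 0 := by
          simp only [e, map_add, map_mul, hχ, Polynomial.eval_sub, Polynomial.eval_X, Polynomial.eval_C]
          linear_combination hpt z _ hF
        rw [this, zero_mul, zero_mul]
      rw [(mul_eq_zero.1 hpq).resolve_right hq, map_zero] at hp
      exact (IsLocalization.map_units L s).mul_left_eq_zero.1 hp
    let evε : Polynomial K →+* DualNumber K := Polynomial.eval₂RingHom (inlHom K K) (inr 1)
    have hfst : ∀ p, (evε p).fst = p.eval 0 := fun p => by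
      induction p using Polynomial.induction_on' with
      | add a b ha hb => rw [map_add, fst_add, ha, hb, Polynomial.eval_add]
      | monomial n c =>
        simp only [evε, Polynomial.coe_eval₂RingHom, Polynomial.eval₂_monomial, Polynomial.eval_monomial, fst_mul,
          fst_pow, fst_inr]
        simp
    have huε : IsUnit (evε q) := isUnit_iff_isUnit_fst.2 (isUnit_iff_ne_zero.2 (by rw [hfst]; exact hq0))
    let χε : L →+* DualNumber K := IsLocalization.Away.lift (S := L) q huε
    have hχε : ∀ p, χε (algebraMap _ L p) = evε p := fun p => IsLocalization.Away.lift_eq q huε p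
    have h1 := hw.qm χε (g := fε f)
      ((specMap_comp' _ _ evε (IsLocalization.Away.lift_comp q huε) (fX f)).trans (specMap_eval_eps f))
    rw [hχε, Polynomial.coe_eval₂RingHom, Polynomial.eval₂_X] at h1
    have h2 := congrArg (fun x => (χε x).snd) he
    simp only [e, map_add, map_mul, hχε, h1.uniq (isF_eps f), map_zero] at h2
    simp [evε] at h2
    linear_combination h2

/-- Off the constant's hyperbola the product lies in the cell. -/
theorem good_one_iff (ha : D.slope f ≠ 0) (z : K) : D.Good f 1 z ↔ 1 + D.slope f * z ≠ 0 := by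
  rcases dichotomy (D := D) f with ⟨-, h⟩ | ⟨z₀, hz₀, hz⟩
  · exact absurd h ha
  rw [hz₀]
  exact not_congr ⟨fun h => by rw [h, hz, add_neg_cancel], fun h => mul_left_cancel₀ ha (by linear_combination h - hz)⟩

theorem good_iff_closed (ha : D.slope f ≠ 0) (x y : K) : D.Good f x y ↔ 1 + D.slope f * x * y ≠ 0 := by
  rcases eq_or_ne x 0 with rfl | hx
  · simp only [mul_zero, zero_mul, add_zero, ne_eq, one_ne_zero, not_false_eq_true, iff_true]
    exact ⟨_, _, _, Dec.zero_left y⟩
  rw [mul_assoc, ← good_one_iff f ha (x * y)]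
  constructor
  · rintro ⟨a, t, b, h⟩
    have := (h.scale (Units.mk0 x hx)⁻¹).good
    simpa [hx] using this
  · rintro ⟨a, t, b, h⟩
    have := (h.scale (Units.mk0 x hx)).good
    simpa [hx] using this

/-- The plane over a geometric point. -/
abbrev fXY : Spec (CommRingCat.of (MvPolynomial (Fin 2) K)) ⟶ S :=
  Spec.map (CommRingCat.ofHom MvPolynomial.C) ≫ f

theorem specMap_eval₂ (v : Fin 2 → K) :
    Spec.map (CommRingCat.ofHom (MvPolynomial.eval v)) ≫ fXY f = f :=
  specMap_retract _ _ (RingHom.ext fun c => by simp) f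

theorem sq_step {n : ℕ} (h : n = n * n) : n = 0 ∨ n = 1 := by
  rcases n with _ | _ | n
  · exact Or.inl rfl
  · exact Or.inr rfl
  · nlinarith

/-- If no product leaves the cell, the root groups commute. -/
theorem commute_of_slope_eq_zero (ha : D.slope f = 0) {B : Type u} [CommRing B] (φ : K →+* B) (x y : B) :
    D.P (tg (Spec.map (CommRingCat.ofHom φ) ≫ f) x) * D.M (tg (Spec.map (CommRingCat.ofHom φ) ≫ f) y) =
      D.M (tg (Spec.map (CommRingCat.ofHom φ) ≫ f) y) * D.P (tg (Spec.map (CommRingCat.ofHom φ) ≫ f) x) := by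
  classical
  obtain ⟨hall, -⟩ | ⟨z₀, -, hz⟩ := dichotomy (D := D) f
  swap
  · rw [ha, zero_mul, eq_comm, neg_eq_zero] at hz
    exact absurd hz one_ne_zero
  have hgood : ∀ u v : K, D.Good f u v := fun u v => by
    rcases eq_or_ne u 0 with rfl | hu
    · exact ⟨_, _, _, Dec.zero_left v⟩
    obtain ⟨a, t, b, h⟩ := (hall (u * v)).good
    have := (h.scale (Units.mk0 u hu)).good
    simpa [hu] using this
  let R := MvPolynomial (Fin 2) K
  let X0 : R := MvPolynomial.X 0
  let X1 : R := MvPolynomial.X 1
  have hR : D.Good (fXY f) X0 X1 := good_of_maximal fun m hm => by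
    obtain ⟨v, hv⟩ := MvPolynomial.isMaximal_iff_eq_vanishingIdeal_singleton.1 hm
    refine ⟨K, inferInstance, MvPolynomial.eval v, Ideal.ext fun q => ?_, ?_⟩
    · rw [hv, MvPolynomial.mem_vanishingIdeal_singleton_iff, RingHom.mem_ker]
      simp [MvPolynomial.aeval_eq_eval]
    · rw [specMap_eval₂]
      exact hgood _ _
  obtain ⟨a₂, t₂, b₂, hdec⟩ := hR
  have hpt : ∀ v : Fin 2 → K, D.Dec f (v 0) (v 1) (MvPolynomial.eval v a₂)
      (qm (MvPolynomial.eval v) (specMap_eval₂ f v) ≫ t₂) (MvPolynomial.eval v b₂) := fun v => by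
    have := hdec.qm' (MvPolynomial.eval v) (specMap_eval₂ f v)
    simpa [X0, X1] using this
  have ht₂ : t₂ = 1 := by
    refine eq_one_of_pt D.hT f MvPolynomial.C (fun w hw => ?_) (MvPolynomial.eval 0)
      (fun c => MvPolynomial.eval_C c) (specMap_eval₂ f 0) t₂ ?_
    · exact ⟨_, (MvPolynomial.totalDegree_eq_zero_iff_eq_C.1
        (MvPolynomial.isUnit_iff_totalDegree_of_isReduced.1 hw).2).symm⟩
    · exact ((hpt 0).uniq (Dec.zero_left (0 : K))).2.1
  subst ht₂
  have hq : ∀ v : Fin 2 → K, qm (MvPolynomial.eval v) (specMap_eval₂ f v) ≫ (1 : pt R (fXY f) ⟶ T) = 1 :=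
    fun v => MonObj.comp_one _
  simp only [hq] at hpt
  have hb : ∀ v : Fin 2 → K, MvPolynomial.eval v b₂ = v 0 := fun v => by
    rcases eq_or_ne (v 0) 0 with h0 | h0
    · have := hpt v
      rw [h0] at this ⊢
      exact (this.uniq (Dec.zero_left _)).2.2
    obtain ⟨a, t, b, h, hw⟩ := hall (v 0 * v 1)
    rw [mul_one] at hw
    have h' := h.scale (Units.mk0 _ h0)
    simp only [Units.val_mk0, mul_one, Units.val_inv_eq_inv_val, inv_mul_cancel_left₀ h0, hw] at h'
    exact ((hpt v).uniq h').2.2
  let p : Polynomial K := MvPolynomial.eval₂ Polynomial.C ![1, Polynomial.X] a₂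
  have hp : ∀ z, p.eval z = MvPolynomial.eval ![1, z] a₂ := fun z => by
    rw [← Polynomial.coe_evalRingHom, MvPolynomial.eval₂_comp_left, ← MvPolynomial.eval₂_id]
    refine congrArg₂ (fun φ v => MvPolynomial.eval₂ φ v a₂) (RingHom.ext fun c => by simp) (funext fun i => ?_)
    fin_cases i <;> simp
  have h1 : ∀ z, D.Dec f 1 z (p.eval z) 1 1 := fun z => by
    have := hpt ![1, z]
    rw [hb] at this
    simpa [hp] using this
  have hscale : ∀ (u : K) (hu : u ≠ 0) (v : K), D.Dec f u v (u⁻¹ * p.eval (u * v)) 1 u := fun u hu v => by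
    have := (h1 (u * v)).scale (Units.mk0 u hu)
    simpa [hu, inv_mul_cancel_left₀ hu] using this
  have hp0 : p.eval 0 = 0 := ((h1 0).uniq (Dec.zero_right 1)).1
  obtain ⟨s, hs⟩ := Infinite.exists_notMem_finset ({0, -1} : Finset K)
  simp only [Finset.mem_insert, Finset.mem_singleton, not_or] at hs
  obtain ⟨hs0, hs1⟩ := hs
  have hs1' : s + 1 ≠ 0 := fun h => hs1 (eq_neg_of_add_eq_zero_left h)
  have hav : ((D.av f (1 : pt K f ⟶ T))⁻¹ : Kˣ) = 1 := by
    have := D.av_mul f (1 : pt K f ⟶ T) 1
    rw [mul_one, left_eq_mul] at this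
    rw [this, inv_one]
  have heq : Polynomial.C s * p.comp (Polynomial.C (s + 1) * Polynomial.X) =
      Polynomial.C (s + 1) * p.comp (Polynomial.C s * p) := Polynomial.funext fun z => by
    have h := ((h1 z).left_of (hscale s hs0 (p.eval z))).uniq (hscale _ hs1' z)
    simp only [Polynomial.eval_mul, Polynomial.eval_C, Polynomial.eval_comp, Polynomial.eval_X]
    have h' := h.1
    field_simp at h'
    linear_combination -h'
  have hdeg : p.natDegree = p.natDegree * p.natDegree := by
    have := congrArg Polynomial.natDegree heq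
    rwa [Polynomial.natDegree_C_mul hs0, Polynomial.natDegree_C_mul hs1', Polynomial.natDegree_comp,
      Polynomial.natDegree_comp, Polynomial.natDegree_C_mul_X _ hs1', Polynomial.natDegree_C_mul hs0, mul_one] at this
  rcases sq_step hdeg with hn | hn
  · exfalso
    have he : p.eval 1 = 0 := by
      rw [Polynomial.eq_C_of_natDegree_eq_zero hn, Polynomial.eval_C] at hp0 ⊢
      exact hp0
    have h := h1 1
    rw [he, Dec, DecX, map_zero, M_zero, MonObj.one_comp, one_mul, one_mul, mul_eq_left, ← M_zero (D := D),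
      ← map_zero (tg f)] at h
    exact one_ne_zero ((tg f).injective (M_injective h))
  obtain ⟨c, hc⟩ : ∃ c, p = Polynomial.C c * Polynomial.X := by
    refine ⟨p.coeff 1, ?_⟩
    conv_lhs => rw [Polynomial.eq_X_add_C_of_natDegree_le_one hn.le,
      Polynomial.coeff_zero_eq_eval_zero, hp0, map_zero, add_zero]
  have hc0 : c ≠ 0 := fun h => by rw [hc, h, map_zero, zero_mul, Polynomial.natDegree_zero] at hn; exact zero_ne_one hn
  have hc1 : c = 1 := by
    have := congrArg (Polynomial.eval (1 : K)) heq
    simp [hc] at this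
    have h3 : (s * (s + 1) * c) * (c - 1) = 0 := by linear_combination -this
    exact sub_eq_zero.1 ((mul_eq_zero.1 h3).resolve_left (mul_ne_zero (mul_ne_zero hs0 hs1') hc0))
  subst hc1
  rw [map_one, one_mul] at hc
  have ha₂ : a₂ = X1 := MvPolynomial.funext fun v => by
    rw [show MvPolynomial.eval v X1 = v 1 from MvPolynomial.eval_X _]
    rcases eq_or_ne (v 0) 0 with h0 | h0
    · have := hpt v
      rw [h0] at this
      exact (this.uniq (Dec.zero_left _)).1
    rw [((hpt v).uniq (hscale _ h0 (v 1))).1, hc, Polynomial.eval_X, inv_mul_cancel_left₀ h0]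
  have hb₂ : b₂ = X0 := MvPolynomial.funext fun v => by
    rw [hb]; exact (MvPolynomial.eval_X _).symm
  subst ha₂ hb₂
  have hfin := hdec.qm' (MvPolynomial.eval₂Hom φ ![x, y]) (g := Spec.map (CommRingCat.ofHom φ) ≫ f)
    (specMap_comp' _ _ φ (RingHom.ext fun c => MvPolynomial.eval₂Hom_C _ _ c) f)
  rw [Dec, DecX, MonObj.comp_one, MonObj.one_comp, mul_one] at hfin
  simpa [X0, X1] using hfin

end Setup

end Groth.Agent.R1F
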