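import Groth.Agent.RedR1.Gen
import Groth.Agent.HomDiag.Local
import Groth.Agent.DynPar.BaseChange
import Groth.Agent.RootIntrinsic.Tangent

/-!
# Units are values of a fibrewise non-trivial character, flat locally
-/

set_option autoImplicit false
set_option linter.style.haveILetI false
set_option backward.isDefEq.respectTransparency false
set_option maxHeartbeats 1000000
set_option synthInstance.maxHeartbeats 400000

universe u

open CategoryTheory Limits MonoidalCategory CartesianMonoidalCategory AlgebraicGeometry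
open scoped CategoryTheory.Obj MonObj

noncomputable section

namespace Groth.Agent.R1F

open Groth.Agent.HomDiag Groth.Agent.MTBridge

variable {S : Scheme.{u}}

/-- A flat surjective cover on which a unit has a root. -/
theorem exists_root_cover (X : Over S) (u : (Γ(X.left, ⊤))ˣ) {n : ℕ} (hn : 0 < n) :
    ∃ (X' : Over S) (g : X' ⟶ X) (r : (Γ(X'.left, ⊤))ˣ), Flat g.left ∧ Surjective g.left ∧
      (r : Γ(X'.left, ⊤)) ^ n = g.left.appTop (u : Γ(X.left, ⊤)) := by
  cases subsingleton_or_nontrivial Γ(X.left, ⊤)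
  · exact ⟨X, 𝟙 X, 1, inferInstanceAs (Flat (𝟙 X.left)), inferInstanceAs (Surjective (𝟙 X.left)),
      Subsingleton.elim _ _⟩
  let p : Polynomial Γ(X.left, ⊤) := Polynomial.X ^ n - Polynomial.C (u : Γ(X.left, ⊤))
  have hp : p.Monic := Polynomial.monic_X_pow_sub_C _ hn.ne'
  haveI : Module.Free Γ(X.left, ⊤) (AdjoinRoot p) := hp.free_adjoinRoot
  haveI : Nontrivial (AdjoinRoot p) := by
    refine nontrivial_of_ne (1 : AdjoinRoot p) 0 ?_
    rw [← map_one (AdjoinRoot.mk p)]
    refine AdjoinRoot.mk_ne_zero_of_degree_lt hp one_ne_zero ?_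
    rw [Polynomial.degree_one, Polynomial.degree_X_pow_sub_C hn]
    exact_mod_cast hn
  haveI : Module.FaithfullyFlat Γ(X.left, ⊤) (AdjoinRoot p) := inferInstance
  let f := Spec.map (CommRingCat.ofHom (algebraMap Γ(X.left, ⊤) (AdjoinRoot p)))
  haveI : Flat f := by
    rw [Flat.SpecMap_iff]; exact RingHom.flat_algebraMap_iff.2 inferInstance
  haveI : Surjective f := ⟨PrimeSpectrum.comap_surjective_of_faithfullyFlat⟩
  let Y : Over S := Over.mk (pullback.fst X.left.toSpecΓ f ≫ X.hom)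
  let g : Y ⟶ X := Over.homMk (pullback.fst X.left.toSpecΓ f)
  let φ : AdjoinRoot p →+* Γ(Y.left, ⊤) :=
    (pullback.snd X.left.toSpecΓ f).appTop.hom.comp
      (Scheme.ΓSpecIso (CommRingCat.of (AdjoinRoot p))).inv.hom
  have hφ : ∀ r, φ (algebraMap _ _ r) = g.left.appTop r := by
    intro r
    change (pullback.snd X.left.toSpecΓ f).appTop
      ((Scheme.ΓSpecIso (CommRingCat.of (AdjoinRoot p))).inv (algebraMap _ _ r)) = _
    have h1 : (Scheme.ΓSpecIso (CommRingCat.of (AdjoinRoot p))).inv (algebraMap _ _ r) =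
        f.appTop ((Scheme.ΓSpecIso _).inv r) :=
      congrArg (fun m => (CommRingCat.Hom.hom m) r)
        (Scheme.ΓSpecIso_inv_naturality (CommRingCat.ofHom (algebraMap Γ(X.left, ⊤) (AdjoinRoot p))))
    have h2 : X.left.toSpecΓ.appTop ((Scheme.ΓSpecIso Γ(X.left, ⊤)).inv r) = r := by
      rw [Scheme.toSpecΓ_appTop, ← CommRingCat.comp_apply, Iso.inv_hom_id]; rfl
    conv_rhs => rw [← h2]
    rw [h1]
    have h3 := congrArg (fun m => m.appTop ((Scheme.ΓSpecIso Γ(X.left, ⊤)).inv r))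
      (pullback.condition (f := X.left.toSpecΓ) (g := f))
    simp only [Scheme.Hom.comp_appTop, CommRingCat.comp_apply] at h3
    exact h3.symm
  have hroot : φ (AdjoinRoot.root p) ^ n = g.left.appTop (u : Γ(X.left, ⊤)) := by
    have h := AdjoinRoot.eval₂_root p
    simp only [p, Polynomial.eval₂_sub, Polynomial.eval₂_X_pow, Polynomial.eval₂_C, sub_eq_zero] at h
    rw [← map_pow, h, ← AdjoinRoot.algebraMap_eq, hφ]
  have hu : IsUnit (φ (AdjoinRoot.root p)) := by
    refine (isUnit_pow_iff hn.ne').1 ?_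
    rw [hroot]
    exact u.isUnit.map _
  exact ⟨Y, g, hu.unit, inferInstanceAs (Flat (pullback.fst X.left.toSpecΓ f)),
    inferInstanceAs (Surjective (pullback.fst X.left.toSpecΓ f)), hroot⟩

theorem toBC_natural {T : Scheme.{u}} (j : T ⟶ S) {X X' : Over T} (v : X' ⟶ X) {G : Over S}
    (a : (Over.map j).obj X ⟶ G) : toBC j ((Over.map j).map v ≫ a) = v ≫ toBC j a :=
  (Over.mapPullbackAdj j).homEquiv_naturality_left v a

theorem toBC_injective {T : Scheme.{u}} (j : T ⟶ S) {X : Over T} {G : Over S} :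
    Function.Injective (toBC j : ((Over.map j).obj X ⟶ G) → _) :=
  ((Over.mapPullbackAdj j).homEquiv X G).injective

theorem exists_dual_ne_zero {M : Type} [AddCommGroup M] [Module.Free ℤ M] {d : M} (hd : d ≠ 0) :
    ∃ f : M →+ ℤ, f d ≠ 0 := by
  by_contra! h
  exact hd ((Module.forall_dual_apply_eq_zero_iff ℤ d).1 fun φ => h φ.toAddMonoidHom)

variable {T : Over S} [GrpObj T] (α : T ⟶ Red.Gm S) [IsMonHom α]

/-- A fibrewise non-trivial character is not trivial on a non-empty test object. -/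
theorem false_of_trivial_over (hα : ∀ s : S, (Over.pullback (Red.geomPt s)).map α ≠ 1) {X : Over S} (p : X.left)
    (h : snd X T ≫ α = 1) : False := by
  let s := X.hom p
  let k := AlgebraicClosure (S.residueField s)
  let L := AlgebraicClosure (X.left.residueField p)
  letI : Algebra (S.residueField s) L :=
    ((algebraMap (X.left.residueField p) L).comp (X.hom.residueFieldMap p).hom).toAlgebra
  let e : k →ₐ[S.residueField s] L := IsAlgClosed.lift
  let X0 : Over S := Over.mk (Red.geomPt s)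
  let XL : Over S := Over.mk (Spec.map (CommRingCat.ofHom (e : k →+* L)) ≫ Red.geomPt s)
  let q : XL ⟶ X0 := Over.homMk (Spec.map (CommRingCat.ofHom (e : k →+* L))) rfl
  let c : XL ⟶ X := Over.homMk (Red.geomPt (S := X.left) p) (by
    show Red.geomPt p ≫ X.hom = Spec.map (CommRingCat.ofHom (e : k →+* L)) ≫ Red.geomPt s
    rw [Red.geomPt, Red.geomPt, Category.assoc, ← Scheme.Hom.SpecMap_residueFieldMap_fromSpecResidueField,
      ← Category.assoc, ← Category.assoc, ← Spec.map_comp, ← Spec.map_comp]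
    congr 2
    refine CommRingCat.hom_ext (RingHom.ext fun a => ?_)
    exact (e.commutes a).symm)
  have hL : snd XL T ≫ α = 1 := by
    rw [← whiskerRight_snd c, Category.assoc, h, MonObj.comp_one]
  haveI : Flat q.left := inferInstanceAs (Flat (Spec.map (CommRingCat.ofHom (e : k →+* L))))
  haveI : Surjective q.left := by
    refine ⟨fun x => ?_⟩
    haveI : Nonempty ↥(Spec (CommRingCat.of L)) := inferInstance
    haveI : Subsingleton ↥(Spec (CommRingCat.of k)) := inferInstance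
    exact ⟨Classical.arbitrary ↥(Spec (CommRingCat.of L)), @Subsingleton.elim ↥(Spec (CommRingCat.of k)) _ _ _⟩
  haveI : Flat (q ▷ T).left := by
    rw [Over.whiskerRight_left]
    exact MorphismProperty.pullbackMap (P := @Flat) ‹Flat q.left› inferInstance (Over.w q).symm (Category.id_comp _).symm
  haveI : Surjective (q ▷ T).left := by
    rw [Over.whiskerRight_left]
    exact MorphismProperty.pullbackMap (P := @Surjective) ‹Surjective q.left› inferInstance (Over.w q).symm (Category.id_comp _).symm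
  haveI := RedR1.epi_of_flat_surjective (q ▷ T)
  have h0 : snd X0 T ≫ α = 1 := by
    rw [← cancel_epi (q ▷ T), ← Category.assoc, whiskerRight_snd, hL, MonObj.comp_one]
  refine hα s ((map_eq_one_iff α (IsPullback.of_hasPullback (Red.geomPt s) T.hom).flip).2 ?_)
  have h6 := congrArg (fun f => f.left) h0
  rw [← MonObj.comp_one (snd X0 T)] at h6
  exact h6

/-- Near a point of a chart on which the torus is split, a unit is a value of the character, flat locally. -/
theorem exists_lift_near {S' : Scheme.{u}} (j : S' ⟶ S) {M : Type} [AddCommGroup M] [Module.Free ℤ M]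
    (e : Grp.mk (Red.bc j T) ≅ Grp.mk (Red.DS S' M))
    (hα : ∀ s : S, (Over.pullback (Red.geomPt s)).map α ≠ 1) (W : Over S') (p : W.left)
    (v : (Over.map j).obj W ⟶ Red.Gm S) :
    ∃ (W' : Over S) (q : W' ⟶ (Over.map j).obj W) (t : W' ⟶ T),
      Flat q.left ∧ p ∈ Set.range q.left ∧ t ≫ α = q ≫ v := by
  let E : Red.bc j T ⟶ Red.DS S' M := e.hom.hom.hom
  let E' : Red.DS S' M ⟶ Red.bc j T := e.inv.hom.hom
  haveI : IsMonHom E' := e.inv.hom.isMonHom_hom
  have hE : E ≫ E' = 𝟙 _ := congr($(e.hom_inv_id).hom.hom)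
  obtain ⟨aE, haE⟩ := exists_toBC_eq j E'
  obtain ⟨φ₀, hφ₀⟩ := exists_ch (S := S') (X := Red.DS S' M) (M := ℤ) (ch (S := S) (X := (Over.map j).obj (Red.DS S' M)) (aE ≫ α))
  have hv0 : ∀ {X : Over S'} (y : X ⟶ Red.DS S' M) (n : Multiplicative ℤ),
      ch ((Over.map j).map y ≫ aE ≫ α) n = ch (y ≫ φ₀) n := fun y n => by
    rw [ch_comp y φ₀ n, hφ₀]
    exact ch_comp _ _ n
  have hmul : ∀ {X : Over S'} (y y' : X ⟶ Red.DS S' M),
      (Over.map j).map (y * y') ≫ aE = ((Over.map j).map y ≫ aE) * ((Over.map j).map y' ≫ aE) := fun y y' => by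
    refine toBC_injective j ?_
    rw [toBC_mul, toBC_natural, toBC_natural, toBC_natural, haE, MonObj.mul_comp]
  have hφ : AutFam.IsHomFamily (Red.DS S' M) (Red.Gm S') (fst (Red.DS S' M) W ≫ φ₀) := fun X a b t => by
    rw [lift_fst_assoc, lift_fst_assoc, lift_fst_assoc]
    refine ch_ext fun n => ?_
    rw [ch_mul, ← hv0, ← hv0, ← hv0, ← Category.assoc, hmul, MonObj.mul_comp, ch_mul, Category.assoc, Category.assoc]
  obtain ⟨W₁, w, hw, hpw, θ, hθ⟩ := exists_locally_DSmap hφ p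
  haveI := hw
  have hpt : ∀ {X : Over S'} (_ : X ⟶ W₁) (y : X ⟶ Red.DS S' M) (n : Multiplicative ℤ),
      ch ((Over.map j).map y ≫ aE ≫ α) n = ch y (Multiplicative.ofAdd (θ n.toAdd)) := fun z y n => by
    have h := congrArg (fun g => ch (lift y z ≫ g) n) hθ
    simp only [lift_whiskerLeft_assoc, lift_fst_assoc, ch_DSmap] at h
    rw [hv0, h]
  obtain ⟨p₁, hp₁⟩ := hpw
  have hθ1 : θ 1 ≠ 0 := by
    intro h0
    refine false_of_trivial_over α hα (X := (Over.map j).obj W₁) p₁ ?_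
    let P : Over S' := Over.mk ((fst ((Over.map j).obj W₁) T).left ≫ W₁.hom)
    let up : (Over.map j).obj W₁ ⊗ T ⟶ (Over.map j).obj P := Over.homMk (𝟙 _) (by
      show 𝟙 _ ≫ ((fst ((Over.map j).obj W₁) T).left ≫ W₁.hom) ≫ j = _
      rw [Category.id_comp, Category.assoc]
      exact Over.w (fst ((Over.map j).obj W₁) T))
    let dn : (Over.map j).obj P ⟶ (Over.map j).obj W₁ ⊗ T := Over.homMk (𝟙 _) (by
      show 𝟙 _ ≫ _ = ((fst ((Over.map j).obj W₁) T).left ≫ W₁.hom) ≫ j
      rw [Category.id_comp, Category.assoc]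
      exact (Over.w (fst ((Over.map j).obj W₁) T)).symm)
    have hud : up ≫ dn = 𝟙 _ := Over.OverMorphism.ext (Category.id_comp _)
    let y : P ⟶ Red.DS S' M := toBC j (dn ≫ snd _ T) ≫ E
    have hy : (Over.map j).map y ≫ aE = dn ≫ snd _ T := by
      refine toBC_injective j ?_
      rw [toBC_natural, haE, Category.assoc, hE, Category.comp_id]
    let z : P ⟶ W₁ := Over.homMk (fst ((Over.map j).obj W₁) T).left rfl
    have key : (dn ≫ snd _ T) ≫ α = 1 := ch_ext fun n => by
      rw [← hy, Category.assoc, hpt z y n, ch_one]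
      have : θ n.toAdd = 0 := by
        have := DFunLike.congr_fun (AddMonoidHom.ext_int (f := θ) (g := 0) (by simpa using h0)) n.toAdd
        simpa using this
      rw [this, ofAdd_zero, map_one]
    rw [← Category.id_comp (snd ((Over.map j).obj W₁) T), ← hud, Category.assoc, Category.assoc,
      ← Category.assoc dn, key, MonObj.comp_one]
  obtain ⟨g, hg⟩ := exists_dual_ne_zero hθ1
  let v₁ : (Over.map j).obj W₁ ⟶ Red.Gm S := (Over.map j).map w ≫ v
  let u : (Γ(W₁.left, ⊤))ˣ := GmPts.unitOfPt (S := S) (T := (Over.map j).obj W₁) v₁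
  obtain ⟨W₂, q, r, hqf, hqs, hr⟩ := exists_root_cover (S := S') W₁ u (Int.natAbs_pos.2 hg)
  haveI := hqf; haveI := hqs
  obtain ⟨r', hr'⟩ : ∃ r' : (Γ(W₂.left, ⊤))ˣ, ((r' ^ g (θ 1) : _ˣ) : Γ(W₂.left, ⊤)) = q.left.appTop (u : Γ(W₁.left, ⊤)) := by
    rcases Int.natAbs_eq (g (θ 1)) with h | h
    · exact ⟨r, by rw [h, zpow_natCast, Units.val_pow_eq_pow_val, hr]⟩
    · exact ⟨r⁻¹, by rw [h, zpow_neg, inv_zpow, inv_inv, zpow_natCast, Units.val_pow_eq_pow_val, hr]⟩
  let χ : Multiplicative M →* Γ(W₂.left, ⊤) :=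
    { toFun := fun m => ((r' ^ g (Multiplicative.toAdd m) : _ˣ) : Γ(W₂.left, ⊤))
      map_one' := by simp
      map_mul' := fun x y => by rw [toAdd_mul, map_add, zpow_add, Units.val_mul] }
  obtain ⟨y, hy⟩ := exists_ch (S := S') (X := W₂) χ
  refine ⟨(Over.map j).obj W₂, (Over.map j).map (q ≫ w), (Over.map j).map y ≫ aE, ?_, ?_, ?_⟩
  · exact inferInstanceAs (Flat (q.left ≫ w.left))
  · obtain ⟨p₂, hp₂⟩ := q.left.surjective p₁
    refine ⟨p₂, ?_⟩
    show (q.left ≫ w.left) p₂ = p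
    rw [Scheme.Hom.comp_apply, hp₂, hp₁]
  · apply GmPts.gmFn_injective
    show Red.gmFn _ = Red.gmFn _
    rw [Category.assoc, RootIntrinsic.gmFn_eq_ch, hpt q y, hy, Functor.map_comp, Category.assoc, GmPts.gmFn_comp]
    show ((r' ^ g (θ (Multiplicative.toAdd (Multiplicative.ofAdd 1))) : _ˣ) : Γ(W₂.left, ⊤)) = _
    rw [toAdd_ofAdd, hr']
    rfl

/-- **Units are values of a fibrewise non-trivial character, flat locally.** -/
theorem exists_lift (hT : Red.IsTorus T) (hα : ∀ s : S, (Over.pullback (Red.geomPt s)).map α ≠ 1) {X : Over S}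
    (v : X ⟶ Red.Gm S) :
    ∃ (X' : Over S) (q : X' ⟶ X) (t : X' ⟶ T), Flat q.left ∧ Surjective q.left ∧ t ≫ α = q ≫ v := by
  obtain ⟨S', f, hf, hfs, -, hsplit⟩ := hT
  haveI := hf; haveI := hfs
  let X₁ : Over S := X ⊗ Over.mk f
  let q₁ : X₁ ⟶ X := fst _ _
  haveI : Flat q₁.left := inferInstanceAs (Flat (pullback.fst X.hom f))
  haveI : Surjective q₁.left := inferInstanceAs (Surjective (pullback.fst X.hom f))
  let k : X₁.left ⟶ S' := (snd X (Over.mk f)).left
  have hloc : ∀ p : X₁.left, ∃ (W' : Over S) (q : W' ⟶ X₁) (t : W' ⟶ T),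
      Flat q.left ∧ p ∈ Set.range q.left ∧ t ≫ α = q ≫ q₁ ≫ v := by
    intro p
    obtain ⟨U, hU, r, ⟨e⟩⟩ := hsplit (k p)
    let W : Over (U : Scheme.{u}) := Over.mk (k ∣_ U)
    let i : (Over.map (U.ι ≫ f)).obj W ⟶ X₁ := Over.homMk (k ⁻¹ᵁ U).ι (by
      show (k ⁻¹ᵁ U).ι ≫ X₁.hom = (k ∣_ U) ≫ U.ι ≫ f
      rw [morphismRestrict_ι_assoc, ← Over.w (snd X (Over.mk f))]
      rfl)
    obtain ⟨W', q, t, hqf, ⟨p', hp'⟩, ht⟩ :=
      exists_lift_near α (U.ι ≫ f) e hα W ⟨p, hU⟩ (i ≫ q₁ ≫ v)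
    haveI := hqf
    refine ⟨W', q ≫ i, t, inferInstanceAs (Flat (q.left ≫ (k ⁻¹ᵁ U).ι)), ⟨p', ?_⟩, ?_⟩
    · show (q.left ≫ (k ⁻¹ᵁ U).ι) p' = p
      rw [Scheme.Hom.comp_apply, hp']
      rfl
    · rw [ht, Category.assoc]
  choose Y q t hflat hmem ht using hloc
  let X' : Over S := Over.mk (Sigma.desc fun p => (Y p).hom)
  let Q : X' ⟶ X₁ := Over.homMk (Sigma.desc fun p => (q p).left) (Sigma.hom_ext (f := fun p => (Y p).left) _ _ fun p => by
    show Sigma.ι (fun p => (Y p).left) p ≫ Sigma.desc _ ≫ X₁.hom = Sigma.ι (fun p => (Y p).left) p ≫ X'.hom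
    rw [Sigma.ι_desc_assoc, Over.w]
    exact (Sigma.ι_desc (fun p => (Y p).hom) p).symm)
  let τ : X' ⟶ T := Over.homMk (Sigma.desc fun p => (t p).left) (Sigma.hom_ext (f := fun p => (Y p).left) _ _ fun p => by
    show Sigma.ι (fun p => (Y p).left) p ≫ Sigma.desc _ ≫ T.hom = Sigma.ι (fun p => (Y p).left) p ≫ X'.hom
    rw [Sigma.ι_desc_assoc, Over.w]
    exact (Sigma.ι_desc (fun p => (Y p).hom) p).symm)
  haveI : ∀ p, Flat (q p).left := hflat
  haveI : Flat Q.left := inferInstanceAs (Flat (Sigma.desc fun p => (q p).left))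
  haveI : Surjective Q.left := Surjective.sigmaDesc_of_union_range_eq_univ
    (Set.eq_univ_of_forall fun p => Set.mem_iUnion.2 ⟨p, hmem p⟩)
  refine ⟨X', Q ≫ q₁, τ, inferInstanceAs (Flat (Q.left ≫ q₁.left)),
    inferInstanceAs (Surjective (Q.left ≫ q₁.left)), ?_⟩
  refine Over.OverMorphism.ext (Sigma.hom_ext _ _ fun p => ?_)
  show Sigma.ι (fun p => (Y p).left) p ≫ Sigma.desc _ ≫ α.left = Sigma.ι (fun p => (Y p).left) p ≫ (Sigma.desc _ ≫ q₁.left) ≫ v.left
  rw [Sigma.ι_desc_assoc, Category.assoc, Sigma.ι_desc_assoc]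
  exact congrArg CommaMorphism.left (ht p)

end Groth.Agent.R1F
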