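import Groth.Agent.R1F.Ring

/-!
# The commutation formula on points of arbitrary schemes
-/

set_option autoImplicit false
set_option linter.style.haveILetI false
set_option backward.isDefEq.respectTransparency false
set_option maxHeartbeats 1000000
set_option synthInstance.maxHeartbeats 400000

universe u

open CategoryTheory Limits MonoidalCategory CartesianMonoidalCategory AlgebraicGeometry
open scoped CategoryTheory.Obj MonObj

noncomputable section

namespace Groth.Agent.R1F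

open Groth.Agent.DynPar LieS
open Groth.Agent.RedR1 (InCell gaPt_gaFn)
open Groth.Agent.BGaNotS (gaPt gaFn_gaPt gaPt_ext gaFn_comp)

variable {S : Scheme.{u}} {G T : Over S} [GrpObj G] [GrpObj T] {D : Setup G T}

namespace Setup

variable {A B : Type u} [CommRing A] [CommRing B] {f : Spec (CommRingCat.of A) ⟶ S}
  {g : Spec (CommRingCat.of B) ⟶ S}

/-- A point of the multiplicative group with a given value. -/
def gmPt (f : Spec (CommRingCat.of A) ⟶ S) (w : Aˣ) : pt A f ⟶ Red.Gm S :=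
  GmPts.ptOfUnit (Units.map (tg f).toRingHom.toMonoidHom w)

theorem gmFn_gmPt (w : Aˣ) : Red.gmFn (gmPt f w) = tg f (w : A) := GmPts.gmFn_ptOfUnit _

theorem exists_gmPt (z : pt A f ⟶ Red.Gm S) : ∃ w, z = gmPt f w := by
  refine ⟨Units.map (tg f).symm.toRingHom.toMonoidHom (GmPts.unitOfPt z), GmPts.gmFn_injective ?_⟩
  show Red.gmFn z = Red.gmFn _
  rw [gmFn_gmPt]
  exact ((tg f).apply_symm_apply _).symm

theorem qm_gmPt (φ : A →+* B) (hφ : Spec.map (CommRingCat.ofHom φ) ≫ f = g) (w : Aˣ) :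
    DynPar.qm φ hφ ≫ gmPt f w = gmPt g (Units.map φ.toMonoidHom w) := by
  refine GmPts.gmFn_injective ?_
  show Red.gmFn _ = Red.gmFn _
  rw [GmPts.gmFn_comp, gmFn_gmPt, gmFn_gmPt, qm_tg]
  rfl

theorem gmPt_mul (w w' : Aˣ) : gmPt f (w * w') = gmPt f w * gmPt f w' := by
  rw [gmPt, map_mul, GmPts.ptOfUnit_mul]; rfl

theorem gmPt_injective : Function.Injective (gmPt f : Aˣ → _) := fun w w' h => by
  have := congrArg Red.gmFn h
  rw [gmFn_gmPt, gmFn_gmPt] at this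
  exact Units.ext ((tg f).injective this)

variable (hnc : D.NC)
include hnc

theorem exists_q₁ : ∃ a : 𝟙_ (Over S) ⟶ Red.Gm S, ∀ (A : Type u) [CommRing A] (f : Spec (CommRingCat.of A) ⟶ S),
    Red.gmFn (toUnit (pt A f) ≫ a) = tg f (D.slope f) := by
  obtain ⟨φ, hφ⟩ := exists_hom_of_pts (S := S) (X := 𝟙_ (Over S)) (Y := Red.Gm S)
    (fun A _ f _ => gmPt f (isUnit_slope hnc f).unit) (fun A B _ _ f f' h hf _ => by
      rw [qm_gmPt]
      congr 1
      exact Units.ext (by simp [slope_qm h hf]))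
  refine ⟨φ, fun A _ f => ?_⟩
  rw [hφ, gmFn_gmPt, IsUnit.unit_spec]

theorem exists_q₂ : ∃ v : Red.Gm S ⟶ T, IsMonHom v ∧
    ∀ (A : Type u) [CommRing A] (f : Spec (CommRingCat.of A) ⟶ S) (w : Aˣ), gmPt f w ≫ v = cav hnc f w := by
  choose W hW using fun (A : Type u) [CommRing A] (f : Spec (CommRingCat.of A) ⟶ S) (z : pt A f ⟶ Red.Gm S) =>
    exists_gmPt z
  obtain ⟨v, hv⟩ := exists_hom_of_pts (S := S) (X := Red.Gm S) (Y := T) (fun A _ f z => cav hnc f (W A f z))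
    (fun A B _ _ f f' h hf y => by
      rw [cav_qm]
      congr 1
      apply gmPt_injective (f := f')
      rw [← hW, ← qm_gmPt h hf, ← hW])
  have hv' : ∀ (A : Type u) [CommRing A] (f : Spec (CommRingCat.of A) ⟶ S) (w : Aˣ), gmPt f w ≫ v = cav hnc f w :=
    fun A _ f w => by rw [hv, ← gmPt_injective (hW A f (gmPt f w))]
  refine ⟨v, DynPar.isMonHom_of_mul v fun X x y => hom_ext_pts _ _ fun A _ f q => ?_, hv'⟩
  obtain ⟨wx, hwx⟩ := exists_gmPt (q ≫ x)
  obtain ⟨wy, hwy⟩ := exists_gmPt (q ≫ y)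
  rw [← Category.assoc, MonObj.comp_mul, MonObj.comp_mul, ← Category.assoc, ← Category.assoc, hwx, hwy,
    ← gmPt_mul, hv', hv', hv', cav_mul]

theorem isUnit_of_pts {X : Over S} (r : Γ(X.left, ⊤))
    (h : ∀ (A : Type u) [CommRing A] (f : Spec (CommRingCat.of A) ⟶ S) (q : pt A f ⟶ X),
      IsUnit (q.left.appTop r)) : IsUnit r := by
  refine X.left.toRingedSpace.isUnit_of_isUnit_germ ⊤ _ fun p hp => ?_
  refine (Scheme.mem_basicOpen X.left _ p hp).1 ?_
  obtain ⟨z, hz⟩ := X.left.affineOpenCover.covers p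
  let q : pt _ (X.left.affineOpenCover.f (X.left.affineOpenCover.idx p) ≫ X.hom) ⟶ X :=
    Over.homMk (X.left.affineOpenCover.f (X.left.affineOpenCover.idx p)) rfl
  have h1 := Scheme.preimage_basicOpen_top q.left r
  rw [Scheme.basicOpen_of_isUnit _ (h _ _ q)] at h1
  rw [← hz]
  exact h1.ge (show z ∈ (⊤ : TopologicalSpace.Opens _) from trivial)

omit hnc in
/-- The values of the two root coordinates along a test map. -/
theorem comp_pp_pm {X : Over S} (q : pt A f ⟶ X) (x y : X ⟶ Red.Ga S) :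
    q ≫ ((x ≫ D.pp) * (y ≫ D.pm)) =
      D.P (tg f ((tg f).symm (Red.gaFn (q ≫ x)))) * D.M (tg f ((tg f).symm (Red.gaFn (q ≫ y)))) := by
  simp only [MonObj.comp_mul, P, M, RingEquiv.apply_symm_apply, gaPt_gaFn, Category.assoc]

theorem main :
    ∃! q : (𝟙_ (Over S) ⟶ Red.Gm S) × (Red.Gm S ⟶ T), IsMonHom q.2 ∧ q.2 ≫ D.α = (𝟙 (Red.Gm S)) ^ 2 ∧
      ∀ (X : Over S) (x y : X ⟶ Red.Ga S),
        ((∃ w : X ⟶ (Red.Ga S ⊗ T) ⊗ Red.Ga S, w ≫ RedR1.cellMap D.i D.pp D.pm = (x ≫ D.pp) * (y ≫ D.pm)) ↔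
          IsUnit (1 + Red.gmFn (toUnit X ≫ q.1) * Red.gaFn x * Red.gaFn y)) ∧
        (IsUnit (1 + Red.gmFn (toUnit X ≫ q.1) * Red.gaFn x * Red.gaFn y) →
          ∃ (x' y' : X ⟶ Red.Ga S) (z : X ⟶ Red.Gm S),
            Red.gmFn z = 1 + Red.gmFn (toUnit X ≫ q.1) * Red.gaFn x * Red.gaFn y ∧
            Red.gaFn x' * Red.gmFn z = Red.gaFn x ∧ Red.gaFn y' * Red.gmFn z = Red.gaFn y ∧
            (x ≫ D.pp) * (y ≫ D.pm) = (y' ≫ D.pm) * (z ≫ q.2 ≫ D.i) * (x' ≫ D.pp)) := by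
  obtain ⟨a, ha⟩ := exists_q₁ hnc
  obtain ⟨v, hvh, hv⟩ := exists_q₂ hnc
  have hW : ∀ {X : Over S} (x y : X ⟶ Red.Ga S) (A : Type u) [CommRing A] (f : Spec (CommRingCat.of A) ⟶ S)
      (q : pt A f ⟶ X), q.left.appTop (1 + Red.gmFn (toUnit X ≫ a) * Red.gaFn x * Red.gaFn y) =
        tg f (1 + D.slope f * (tg f).symm (Red.gaFn (q ≫ x)) * (tg f).symm (Red.gaFn (q ≫ y))) := by
    intro X x y A _ f q
    rw [map_add, map_one, map_mul, map_mul, map_add, map_one, map_mul, map_mul, RingEquiv.apply_symm_apply,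
      RingEquiv.apply_symm_apply, ← GmPts.gmFn_comp, ← gaFn_comp, ← gaFn_comp, ← Category.assoc,
      toUnit_unique (q ≫ toUnit X) (toUnit _), ha]
  refine ⟨(a, v), ⟨hvh, ?sq, fun X x y => ⟨⟨?mp, fun hu => ?mpr⟩, fun hu => ?formula⟩⟩, ?uniq⟩
  case formula =>
    let u := hu.unit
    refine ⟨gaPt (Red.gaFn x * ↑u⁻¹), gaPt (Red.gaFn y * ↑u⁻¹), GmPts.ptOfUnit u, ?_, ?_, ?_, ?_⟩
    · rw [GmPts.gmFn_ptOfUnit]; exact hu.unit_spec
    · rw [gaFn_gaPt, GmPts.gmFn_ptOfUnit, mul_assoc, Units.inv_mul, mul_one]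
    · rw [gaFn_gaPt, GmPts.gmFn_ptOfUnit, mul_assoc, Units.inv_mul, mul_one]
    refine hom_ext_pts _ _ fun A _ f q => ?_
    let U : Γ((pt A f).left, ⊤)ˣ := Units.map q.left.appTop.hom.toMonoidHom u
    let w : Aˣ := Units.map (tg f).symm.toRingHom.toMonoidHom U
    have hw : 1 + D.slope f * (tg f).symm (Red.gaFn (q ≫ x)) * (tg f).symm (Red.gaFn (q ≫ y)) = w := by
      apply (tg f).injective
      rw [← hW]
      exact ((congrArg (fun z => q.left.appTop z) hu.unit_spec).symm.trans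
        ((tg f).apply_symm_apply _).symm)
    have hd : D.P (tg f _) * D.M (tg f _) = _ := exists_dec hnc hw
    have hz : q ≫ GmPts.ptOfUnit u = gmPt f w := by
      refine GmPts.gmFn_injective ?_
      show Red.gmFn _ = Red.gmFn _
      rw [GmPts.gmFn_comp, GmPts.gmFn_ptOfUnit, gmFn_gmPt]
      exact ((tg f).apply_symm_apply _).symm
    have hiv : ∀ r : X ⟶ Red.Ga S, q ≫ gaPt (Red.gaFn r * (↑u⁻¹ : Γ(X.left, ⊤))) =
        gaPt (tg f ((tg f).symm (Red.gaFn (q ≫ r)) * (↑w⁻¹ : A))) := fun r => by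
      refine gaPt_ext ?_
      rw [gaFn_comp, gaFn_gaPt, gaFn_gaPt, map_mul, map_mul, ← gaFn_comp, RingEquiv.apply_symm_apply]
      congr 1
      show _ = tg f ((Units.map (tg f).symm.toRingHom.toMonoidHom U)⁻¹ : Aˣ)
      rw [← map_inv, ← map_inv]
      exact ((tg f).apply_symm_apply _).symm
    rw [comp_pp_pm, hd, ← hv]
    simp only [MonObj.comp_mul, P, M, ← Category.assoc, hiv, hz]
  case sq =>
    refine hom_ext_pts _ _ fun A _ f z => ?_
    obtain ⟨w, rfl⟩ := exists_gmPt z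
    have h2 : gmPt f w ≫ ((𝟙 (Red.Gm S)) ^ 2) = gmPt f (w * w) := by
      rw [pow_two, MonObj.comp_mul, Category.comp_id, gmPt_mul]
    rw [h2, ← Category.assoc, hv]
    refine GmPts.gmFn_injective ?_
    show Red.gmFn _ = Red.gmFn _
    rw [gmFn_gmPt, Units.val_mul, ← pow_two, ← av_cav hnc (f := f) w, tg_av]
    rfl
  case mp =>
    rintro ⟨w, hw⟩
    refine isUnit_of_pts hnc _ fun A _ f q => ?_
    rw [hW]
    refine ((good_iff hnc _ _).1 ?_).map (tg f)
    rw [good_iff_inCell, ← comp_pp_pm, ← hw]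
    refine InCell.comp q ?_
    rw [RedR1.inCell_iff, Over.comp_left]
    rintro _ ⟨p, rfl⟩
    exact ⟨_, rfl⟩
  case mpr =>
    let u := hu.unit
    refine ⟨lift (lift (gaPt (Red.gaFn y * ↑u⁻¹)) (GmPts.ptOfUnit u ≫ v)) (gaPt (Red.gaFn x * ↑u⁻¹)), ?_⟩
    rw [RedR1.lift_cellMap]
    refine hom_ext_pts _ _ fun A _ f q => ?_
    let U : Γ((pt A f).left, ⊤)ˣ := Units.map q.left.appTop.hom.toMonoidHom u
    let w : Aˣ := Units.map (tg f).symm.toRingHom.toMonoidHom U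
    have hw : 1 + D.slope f * (tg f).symm (Red.gaFn (q ≫ x)) * (tg f).symm (Red.gaFn (q ≫ y)) = w := by
      apply (tg f).injective
      rw [← hW]
      exact ((congrArg (fun z => q.left.appTop z) hu.unit_spec).symm.trans
        ((tg f).apply_symm_apply _).symm)
    have hd : D.P (tg f _) * D.M (tg f _) = _ := exists_dec hnc hw
    have hz : q ≫ GmPts.ptOfUnit u = gmPt f w := by
      refine GmPts.gmFn_injective ?_
      show Red.gmFn _ = Red.gmFn _
      rw [GmPts.gmFn_comp, GmPts.gmFn_ptOfUnit, gmFn_gmPt]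
      exact ((tg f).apply_symm_apply _).symm
    have hiv : ∀ r : X ⟶ Red.Ga S, q ≫ gaPt (Red.gaFn r * (↑u⁻¹ : Γ(X.left, ⊤))) =
        gaPt (tg f ((tg f).symm (Red.gaFn (q ≫ r)) * (↑w⁻¹ : A))) := fun r => by
      refine gaPt_ext ?_
      rw [gaFn_comp, gaFn_gaPt, gaFn_gaPt, map_mul, map_mul, ← gaFn_comp, RingEquiv.apply_symm_apply]
      congr 1
      show _ = tg f ((Units.map (tg f).symm.toRingHom.toMonoidHom U)⁻¹ : Aˣ)
      rw [← map_inv, ← map_inv]
      exact ((tg f).apply_symm_apply _).symm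
    rw [comp_pp_pm, hd, ← hv]
    simp only [MonObj.comp_mul, P, M, ← Category.assoc, hiv, hz]
  case uniq =>
    rintro ⟨a', v'⟩ ⟨hv'h, -, hf'⟩
    have key : ∀ (A : Type u) [CommRing A] (f : Spec (CommRingCat.of A) ⟶ S) (z : A) (r : A),
        tg f r = Red.gmFn (toUnit (pt A f) ≫ a') → ∀ w : Aˣ, (w : A) = 1 + r * z →
        ∃ a₀, D.Dec f 1 z a₀ (gmPt f w ≫ v') ↑w⁻¹ := by
      intro A _ f z r hr w hw
      have hunit : IsUnit (1 + Red.gmFn (toUnit (pt A f) ≫ a') * Red.gaFn (gaPt (tg f 1) : pt A f ⟶ Red.Ga S) *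
          Red.gaFn (gaPt (tg f z) : pt A f ⟶ Red.Ga S)) := by
        rw [gaFn_gaPt, gaFn_gaPt, ← hr, map_one, mul_one, ← map_one (tg f), ← map_mul, ← map_add, ← hw]
        exact w.isUnit.map (tg f)
      obtain ⟨x', y', p, hp, hx', hy', he⟩ := (hf' (pt A f) (gaPt (tg f 1)) (gaPt (tg f z))).2 hunit
      have hp' : p = gmPt f w := by
        refine GmPts.gmFn_injective ?_
        show Red.gmFn _ = Red.gmFn _
        rw [hp, gmFn_gmPt, gaFn_gaPt, gaFn_gaPt, ← hr, hw, map_add, map_mul, map_one, mul_one]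
      subst hp'
      rw [gmFn_gmPt, gaFn_gaPt] at hx'
      refine ⟨(tg f).symm (Red.gaFn y'), ?_⟩
      rw [Dec, DecX, RingEquiv.apply_symm_apply, P, M, M, P, gaPt_gaFn, Category.assoc,
        show tg f (↑w⁻¹ : A) = Red.gaFn x' from ?_, gaPt_gaFn]
      · exact he
      · refine (w.isUnit.map (tg f)).mul_right_cancel ?_
        rw [hx', ← map_mul, Units.inv_mul]
    have hr : ∀ (A : Type u) [CommRing A] (f : Spec (CommRingCat.of A) ⟶ S),
        Red.gmFn (toUnit (pt A f) ≫ a') = tg f (D.slope f) := by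
      intro A _ f
      set r := (tg f).symm (Red.gmFn (toUnit (pt A f) ≫ a')) with hrdef
      have hrε : tg (fε f) (TrivSqZeroExt.inlHom A A r) = Red.gmFn (toUnit (pt _ (fε f)) ≫ a') := by
        rw [← qm_tg f (TrivSqZeroExt.inlHom A A) (g := fε f) rfl, hrdef, RingEquiv.apply_symm_apply, ← GmPts.gmFn_comp,
          ← Category.assoc, toUnit_unique (_ ≫ toUnit (pt A f)) (toUnit _)]
      have hu : IsUnit (1 + TrivSqZeroExt.inr r : DualNumber A) :=
        TrivSqZeroExt.isUnit_iff_isUnit_fst.2 (by simp)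
      obtain ⟨a₀, hdec⟩ := key _ (fε f) (TrivSqZeroExt.inr 1) _ hrε hu.unit (by
        rw [IsUnit.unit_spec]; ext <;> simp)
      have hF : D.IsF (fε f) (TrivSqZeroExt.inr 1) (1 + TrivSqZeroExt.inr r) :=
        ⟨_, _, _, hdec, hu.val_inv_mul⟩
      have h2 := congrArg TrivSqZeroExt.snd (hF.uniq (isF_eps f))
      simp at h2
      rw [← h2, hrdef, RingEquiv.apply_symm_apply]
    have e1 : a' = a := hom_ext_pts _ _ fun A _ f q => by
      rw [toUnit_unique q (toUnit _)]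
      refine GmPts.gmFn_injective ?_
      show Red.gmFn _ = Red.gmFn _
      rw [hr, ha]
    have e2 : v' = v := hom_ext_pts _ _ fun A _ f q => by
      obtain ⟨w, rfl⟩ := exists_gmPt q
      obtain ⟨z, a₀, t, b, hd, hz⟩ := exists_good_one hnc f w
      obtain ⟨a₁, hd'⟩ := key A f z _ (hr A f).symm w hz.symm
      rw [(hd'.uniq hd).2.1, eq_cav_one hnc hd hz, hv]
    rw [e1, e2]

end Setup

end Groth.Agent.R1F
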