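import Groth.Agent.R1F.Lift
import Groth.Agent.DynPar.Orbit

/-!
# Products of two opposite root elements inside the cell
-/

set_option autoImplicit false
set_option linter.style.haveILetI false
set_option backward.isDefEq.respectTransparency false
set_option maxHeartbeats 1000000
set_option synthInstance.maxHeartbeats 400000

universe u

open CategoryTheory Limits MonoidalCategory CartesianMonoidalCategory AlgebraicGeometry
open scoped CategoryTheory.Obj MonObj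

noncomputable section

namespace Groth.Agent.R1F

open Groth.Agent.BGaNotS (gaPt gaFn_gaPt gaPt_ext gaFn_comp gaFn_mul gaFn_one)
open Groth.Agent.RedR1 (cellMap InCell NormP NormM gaPt_add gaPt_comp gaPt_gaFn)
open Groth.Agent.DynPar LieS

variable {S : Scheme.{u}}

/-- The data of the rank-one situation over an arbitrary base. -/
structure Setup (G T : Over S) [GrpObj G] [GrpObj T] where
  i : T ⟶ G
  α : T ⟶ Red.Gm S
  pp : Red.Ga S ⟶ G
  pm : Red.Ga S ⟶ G
  hi : IsMonHom i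
  hαh : IsMonHom α
  hpph : IsMonHom pp
  hpmh : IsMonHom pm
  hmp : Mono pp
  hmm : Mono pm
  hT : Red.IsTorus T
  hα : ∀ s : S, (Over.pullback (Red.geomPt s)).map α ≠ 1
  hP : NormP i α pp
  hM : NormM i α pm
  hΩ : IsOpenImmersion (cellMap i pp pm).left

attribute [instance] Setup.hi Setup.hαh Setup.hpph Setup.hpmh Setup.hmp Setup.hmm Setup.hΩ

variable {G T : Over S} [GrpObj G] [GrpObj T] (D : Setup G T)

namespace Setup

section Gen

variable {X X' : Over S}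

/-- The positive root element. -/
abbrev P (x : Γ(X.left, ⊤)) : X ⟶ G := gaPt x ≫ D.pp

/-- The negative root element. -/
abbrev M (x : Γ(X.left, ⊤)) : X ⟶ G := gaPt x ≫ D.pm

/-- The value of the character. -/
abbrev rt (t : X ⟶ T) : (Γ(X.left, ⊤))ˣ := GmPts.unitOfPt (t ≫ D.α)

/-- A decomposition in the cell of a product of two root elements. -/
def DecX (x y a : Γ(X.left, ⊤)) (t : X ⟶ T) (b : Γ(X.left, ⊤)) : Prop :=
  D.P x * D.M y = D.M a * (t ≫ D.i) * D.P b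

variable {D}

theorem P_add (a b : Γ(X.left, ⊤)) : D.P (a + b) = D.P a * D.P b := by
  simp only [P, gaPt_add, MonObj.mul_comp]

theorem M_add (a b : Γ(X.left, ⊤)) : D.M (a + b) = D.M a * D.M b := by
  simp only [M, gaPt_add, MonObj.mul_comp]

theorem P_zero : D.P (0 : Γ(X.left, ⊤)) = 1 := by
  have h := P_add (D := D) (0 : Γ(X.left, ⊤)) 0
  rw [add_zero] at h
  exact left_eq_mul.1 h

theorem M_zero : D.M (0 : Γ(X.left, ⊤)) = 1 := by
  have h := M_add (D := D) (0 : Γ(X.left, ⊤)) 0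
  rw [add_zero] at h
  exact left_eq_mul.1 h

theorem M_sub (a b : Γ(X.left, ⊤)) : D.M (a - b) = (D.M b)⁻¹ * D.M a := by
  rw [eq_inv_mul_iff_mul_eq, ← M_add, add_sub_cancel]

theorem M_injective : Function.Injective (D.M : Γ(X.left, ⊤) → _) := fun a b h => by
  have := congrArg Red.gaFn ((cancel_mono D.pm).1 h)
  rwa [gaFn_gaPt, gaFn_gaPt] at this

theorem conj_P (t : X ⟶ T) (a : Γ(X.left, ⊤)) :
    (t ≫ D.i) * D.P a * (t ≫ D.i)⁻¹ = D.P ((D.rt t : Γ(X.left, ⊤)) * a) := D.hP.apply t a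

theorem conj_M (t : X ⟶ T) (a : Γ(X.left, ⊤)) :
    (t ≫ D.i) * D.M a * (t ≫ D.i)⁻¹ = D.M ((↑(D.rt t)⁻¹ : Γ(X.left, ⊤)) * a) := D.hM.apply t a

theorem rt_mul (s t : X ⟶ T) : D.rt (s * t) = D.rt s * D.rt t := by
  simp only [rt, MonObj.mul_comp, GmPts.unitOfPt_mul]

theorem rt_inv (t : X ⟶ T) : D.rt t⁻¹ = (D.rt t)⁻¹ := by
  simp only [rt, GrpObj.inv_comp, GmPts.unitOfPt_inv]

theorem comp_P (q : X' ⟶ X) (a : Γ(X.left, ⊤)) : q ≫ D.P a = D.P (q.left.appTop a) := by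
  simp only [P, ← Category.assoc, gaPt_comp]

theorem comp_M (q : X' ⟶ X) (a : Γ(X.left, ⊤)) : q ≫ D.M a = D.M (q.left.appTop a) := by
  simp only [M, ← Category.assoc, gaPt_comp]

namespace DecX

variable {x y x₁ y₁ a a' b b' : Γ(X.left, ⊤)} {t t' : X ⟶ T}

theorem inCell (h : D.DecX x y a t b) : InCell D.i D.pp D.pm (D.P x * D.M y) := ⟨_, t, _, h⟩

theorem of_inCell (h : InCell D.i D.pp D.pm (D.P x * D.M y)) : ∃ a t b, D.DecX x y a t b := by
  obtain ⟨u, t, v, h⟩ := h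
  refine ⟨Red.gaFn u, t, Red.gaFn v, ?_⟩
  rw [DecX, h]
  simp only [P, M, gaPt_gaFn]

theorem uniq (h : D.DecX x y a t b) (h' : D.DecX x y a' t' b') : a = a' ∧ t = t' ∧ b = b' := by
  obtain ⟨h1, h2, h3⟩ := RedR1.cell_inj (h.symm.trans h')
  have e1 := congrArg Red.gaFn h1
  have e3 := congrArg Red.gaFn h3
  rw [gaFn_gaPt, gaFn_gaPt] at e1 e3
  exact ⟨e1, h2, e3⟩

theorem comp (q : X' ⟶ X) (h : D.DecX x y a t b) :
    D.DecX (q.left.appTop x) (q.left.appTop y) (q.left.appTop a) (q ≫ t) (q.left.appTop b) := by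
  rw [DecX, ← comp_P, ← comp_M, ← MonObj.comp_mul, h, MonObj.comp_mul, MonObj.comp_mul, comp_P, comp_M, Category.assoc]

theorem zero_left (y : Γ(X.left, ⊤)) : D.DecX 0 y y 1 0 := by
  rw [DecX, P_zero, one_mul, MonObj.one_comp, mul_one, mul_one]

theorem zero_right (x : Γ(X.left, ⊤)) : D.DecX x 0 0 1 x := by
  rw [DecX, M_zero, mul_one, MonObj.one_comp, one_mul, one_mul]

theorem scale_rt (s : X ⟶ T) (h : D.DecX x y a t b) :
    D.DecX ((D.rt s : Γ(X.left, ⊤)) * x) ((↑(D.rt s)⁻¹ : Γ(X.left, ⊤)) * y)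
      ((↑(D.rt s)⁻¹ : Γ(X.left, ⊤)) * a) t ((D.rt s : Γ(X.left, ⊤)) * b) := by
  rw [DecX, ← conj_P, ← conj_M, ← RedR1.conj_cell D.hP D.hM D.hT]
  show _ = (s ≫ D.i) * (D.M a * (t ≫ D.i) * D.P b) * (s ≫ D.i)⁻¹
  rw [← h]
  group

theorem right_of (h : D.DecX x y a t b) (h' : D.DecX b y₁ a' t' b') :
    D.DecX x (y + y₁) (a + (↑(D.rt t)⁻¹ : Γ(X.left, ⊤)) * a') (t * t') b' := by
  rw [DecX, M_add, M_add, ← conj_M, MonObj.mul_comp]
  calc D.P x * (D.M y * D.M y₁) = D.M a * (t ≫ D.i) * (D.P b * D.M y₁) := by rw [← mul_assoc, h]; group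
    _ = _ := by rw [h']; group

theorem right_to (h : D.DecX x y a t b) (h' : D.DecX x (y + y₁) a' t' b') :
    D.DecX b y₁ ((D.rt t : Γ(X.left, ⊤)) * (a' - a)) (t⁻¹ * t') b' := by
  have e : D.M ((D.rt t : Γ(X.left, ⊤)) * (a' - a)) = (t ≫ D.i)⁻¹ * D.M (a' - a) * (t ≫ D.i) := by
    have := conj_M (D := D) t⁻¹ (a' - a)
    rw [rt_inv, inv_inv, GrpObj.inv_comp, inv_inv] at this
    exact this.symm
  rw [DecX, MonObj.mul_comp, GrpObj.inv_comp, e, M_sub]
  rw [DecX, M_add] at h'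
  calc D.P b * D.M y₁ = (t ≫ D.i)⁻¹ * (D.M a)⁻¹ * (D.P x * (D.M y * D.M y₁)) := by
        rw [← mul_assoc (D.P x), h]; group
    _ = _ := by rw [h']; group

theorem left_of (h : D.DecX x y a t b) (h' : D.DecX x₁ a a' t' b') :
    D.DecX (x₁ + x) y a' (t' * t) ((↑(D.rt t)⁻¹ : Γ(X.left, ⊤)) * b' + b) := by
  have e : D.P ((↑(D.rt t)⁻¹ : Γ(X.left, ⊤)) * b') = (t ≫ D.i)⁻¹ * D.P b' * (t ≫ D.i) := by
    have := conj_P (D := D) t⁻¹ b'
    rw [rt_inv, GrpObj.inv_comp, inv_inv] at this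
    exact this.symm
  rw [DecX, P_add, P_add, e, MonObj.mul_comp]
  calc D.P x₁ * D.P x * D.M y = (D.P x₁ * D.M a) * (t ≫ D.i) * D.P b := by rw [mul_assoc, h]; group
    _ = _ := by rw [h']; group

/-- Scaling by an arbitrary unit. -/
theorem scale (r : (Γ(X.left, ⊤))ˣ) (h : D.DecX x y a t b) :
    D.DecX ((r : Γ(X.left, ⊤)) * x) ((↑r⁻¹ : Γ(X.left, ⊤)) * y)
      ((↑r⁻¹ : Γ(X.left, ⊤)) * a) t ((r : Γ(X.left, ⊤)) * b) := by
  obtain ⟨X', q, s, hf, hs, hsq⟩ := exists_lift D.α D.hT D.hα (GmPts.ptOfUnit r : X ⟶ Red.Gm S)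
  haveI := hf; haveI := hs
  haveI := RedR1.epi_of_flat_surjective q
  have h' := (h.comp q).scale_rt s
  have hr : D.rt s = Units.map q.left.appTop.hom.toMonoidHom r := by
    rw [rt, hsq]
    ext
    rw [GmPts.val_unitOfPt, GmPts.gmFn_comp, GmPts.gmFn_ptOfUnit]
    rfl
  have e1 : (D.rt s : Γ(X'.left, ⊤)) = q.left.appTop (r : Γ(X.left, ⊤)) := by rw [hr]; rfl
  have e2 : (↑(D.rt s)⁻¹ : Γ(X'.left, ⊤)) = q.left.appTop (↑r⁻¹ : Γ(X.left, ⊤)) := by rw [hr, ← map_inv]; rfl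
  rw [e1, e2] at h'
  simp only [← map_mul] at h'
  rw [DecX, ← cancel_epi q, MonObj.comp_mul, MonObj.comp_mul, MonObj.comp_mul, comp_P, comp_P, comp_M, comp_M,
    ← Category.assoc]
  exact h'

end DecX

end Gen

section Affine

variable {A B : Type u} [CommRing A] [CommRing B] (f : Spec (CommRingCat.of A) ⟶ S)
  {g : Spec (CommRingCat.of B) ⟶ S}

/-- The elements of the ring as functions on its spectrum. -/
def tg : A ≃+* Γ((pt A f).left, ⊤) := (Scheme.ΓSpecIso (CommRingCat.of A)).symm.commRingCatIsoToRingEquiv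

theorem qm_tg (φ : A →+* B) (hφ : Spec.map (CommRingCat.ofHom φ) ≫ f = g) (x : A) :
    (qm φ hφ).left.appTop (tg f x) = tg g (φ x) :=
  (congrArg (fun m => (CommRingCat.Hom.hom m) x) (Scheme.ΓSpecIso_inv_naturality (CommRingCat.ofHom φ))).symm


/-- The value of the character at an affine point. -/
def av (t : pt A f ⟶ T) : Aˣ := Units.map (tg f).symm.toRingHom.toMonoidHom (D.rt t)

theorem tg_av (t : pt A f ⟶ T) : tg f (D.av f t : A) = (D.rt t : Γ((pt A f).left, ⊤)) :=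
  (tg f).apply_symm_apply _

theorem tg_av_inv (t : pt A f ⟶ T) : tg f (↑(D.av f t)⁻¹ : A) = (↑(D.rt t)⁻¹ : Γ((pt A f).left, ⊤)) := by
  rw [av, ← map_inv]
  exact (tg f).apply_symm_apply _

theorem av_qm (φ : A →+* B) (hφ : Spec.map (CommRingCat.ofHom φ) ≫ f = g) (t : pt A f ⟶ T) :
    (D.av g (qm φ hφ ≫ t) : B) = φ (D.av f t) := by
  apply (tg g).injective
  rw [tg_av, ← qm_tg f φ hφ, tg_av, rt, Category.assoc, GmPts.val_unitOfPt, GmPts.gmFn_comp]
  rfl

theorem av_mul (s t : pt A f ⟶ T) : D.av f (s * t) = D.av f s * D.av f t := by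
  rw [av, rt_mul, map_mul]; rfl

/-- A decomposition in the cell, over a ring. -/
def Dec (x y a : A) (t : pt A f ⟶ T) (b : A) : Prop := D.DecX (tg f x) (tg f y) (tg f a) t (tg f b)

/-- The product lies in the cell. -/
def Good (x y : A) : Prop := ∃ a t b, D.Dec f x y a t b

variable {D} {f} {x y x₁ y₁ a a' b b' : A} {t t' : pt A f ⟶ T}

namespace Dec

theorem good (h : D.Dec f x y a t b) : D.Good f x y := ⟨a, t, b, h⟩

theorem uniq (h : D.Dec f x y a t b) (h' : D.Dec f x y a' t' b') : a = a' ∧ t = t' ∧ b = b' := by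
  obtain ⟨h1, h2, h3⟩ := DecX.uniq h h'
  exact ⟨(tg f).injective h1, h2, (tg f).injective h3⟩

theorem qm' (φ : A →+* B) (hφ : Spec.map (CommRingCat.ofHom φ) ≫ f = g) (h : D.Dec f x y a t b) :
    D.Dec g (φ x) (φ y) (φ a) (qm φ hφ ≫ t) (φ b) := by
  have := DecX.comp (qm φ hφ) h
  simp only [qm_tg] at this
  exact this

theorem zero_left (y : A) : D.Dec f 0 y y 1 0 := by
  rw [Dec, map_zero]; exact DecX.zero_left _

theorem zero_right (x : A) : D.Dec f x 0 0 1 x := by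
  rw [Dec, map_zero]; exact DecX.zero_right _

theorem scale (r : Aˣ) (h : D.Dec f x y a t b) :
    D.Dec f ((r : A) * x) ((↑r⁻¹ : A) * y) ((↑r⁻¹ : A) * a) t ((r : A) * b) := by
  have := DecX.scale (Units.map (tg f).toRingHom.toMonoidHom r) h
  rw [← map_inv] at this
  simp only [Dec, map_mul]
  exact this

theorem right_of (h : D.Dec f x y a t b) (h' : D.Dec f b y₁ a' t' b') :
    D.Dec f x (y + y₁) (a + (↑(D.av f t)⁻¹ : A) * a') (t * t') b' := by
  simp only [Dec, map_add, map_mul, tg_av_inv]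
  exact DecX.right_of h h'

theorem right_to (h : D.Dec f x y a t b) (h' : D.Dec f x (y + y₁) a' t' b') :
    D.Dec f b y₁ ((D.av f t : A) * (a' - a)) (t⁻¹ * t') b' := by
  simp only [Dec, map_sub, map_mul, tg_av] at h' ⊢
  rw [map_add] at h'
  exact DecX.right_to h h'

theorem left_of (h : D.Dec f x y a t b) (h' : D.Dec f x₁ a a' t' b') :
    D.Dec f (x₁ + x) y a' (t' * t) ((↑(D.av f t)⁻¹ : A) * b' + b) := by
  simp only [Dec, map_add, map_mul, tg_av_inv]
  exact DecX.left_of h h'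

theorem eq_pts (h : D.Dec f x y a t b) :
    D.P (tg f x) * D.M (tg f y) = D.M (tg f a) * (t ≫ D.i) * D.P (tg f b) := h

end Dec

theorem good_iff_inCell (f : Spec (CommRingCat.of A) ⟶ S) (x y : A) :
    D.Good f x y ↔ InCell D.i D.pp D.pm (D.P (tg f x) * D.M (tg f y)) := by
  refine ⟨fun ⟨a, t, b, h⟩ => DecX.inCell h, fun h => ?_⟩
  obtain ⟨a, t, b, h⟩ := DecX.of_inCell h
  refine ⟨(tg f).symm a, t, (tg f).symm b, ?_⟩
  rw [Dec, RingEquiv.apply_symm_apply, RingEquiv.apply_symm_apply]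
  exact h

theorem Good.qm (φ : A →+* B) (hφ : Spec.map (CommRingCat.ofHom φ) ≫ f = g) (h : D.Good f x y) :
    D.Good g (φ x) (φ y) := by
  obtain ⟨a, t, b, h⟩ := h
  exact (h.qm' φ hφ).good

theorem Good.of_surjective (φ : A →+* B) (hφ : Spec.map (CommRingCat.ofHom φ) ≫ f = g)
    (hs : Function.Surjective (PrimeSpectrum.comap φ)) (h : D.Good g (φ x) (φ y)) : D.Good f x y := by
  rw [good_iff_inCell] at h ⊢
  haveI : Surjective (DynPar.qm φ hφ).left := ⟨hs⟩
  refine InCell.of_comp (DynPar.qm φ hφ) ?_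
  rw [MonObj.comp_mul, comp_P, comp_M, qm_tg, qm_tg]
  exact h

/-- Near a prime at which the product lies in the cell it lies in the cell. -/
theorem exists_away_good (p : PrimeSpectrum A) {K : Type u} [Field K] (φ : A →+* K)
    (hp : PrimeSpectrum.comap φ ⟨⊥, Ideal.isPrime_bot⟩ = p)
    (h : D.Good (Spec.map (CommRingCat.ofHom φ) ≫ f) (φ x) (φ y)) :
    ∃ q : A, q ∉ p.asIdeal ∧ D.Good (Spec.map (CommRingCat.ofHom (algebraMap A (Localization.Away q))) ≫ f)
      (algebraMap A _ x) (algebraMap A _ y) := by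
  let c := cellMap D.i D.pp D.pm
  let V : (pt A f).left.Opens := (D.P (tg f x) * D.M (tg f y)).left ⁻¹ᵁ c.left.opensRange
  rw [good_iff_inCell] at h
  have hqm : D.P (tg (Spec.map (CommRingCat.ofHom φ) ≫ f) (φ x)) * D.M (tg _ (φ y)) =
      DynPar.qm φ rfl ≫ (D.P (tg f x) * D.M (tg f y)) := by
    rw [MonObj.comp_mul, comp_P, comp_M, qm_tg, qm_tg]
  rw [hqm, RedR1.inCell_iff] at h
  have hpV : p ∈ V := by
    rw [← hp]
    exact h ⟨⟨⊥, Ideal.isPrime_bot⟩, rfl⟩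
  obtain ⟨_, ⟨q, rfl⟩, hpq, hqV⟩ := PrimeSpectrum.isTopologicalBasis_basic_opens.exists_subset_of_mem_open hpV V.isOpen
  refine ⟨q, hpq, ?_⟩
  rw [good_iff_inCell]
  have hqm' : D.P (tg (Spec.map (CommRingCat.ofHom (algebraMap A (Localization.Away q))) ≫ f) (algebraMap A _ x)) *
      D.M (tg _ (algebraMap A _ y)) =
      DynPar.qm (algebraMap A (Localization.Away q)) rfl ≫ (D.P (tg f x) * D.M (tg f y)) := by
    rw [MonObj.comp_mul, comp_P, comp_M, qm_tg, qm_tg]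
  rw [hqm', RedR1.inCell_iff]
  rintro _ ⟨z, rfl⟩
  refine hqV ?_
  have hr := PrimeSpectrum.localization_away_comap_range (Localization.Away q) q
  exact hr.subset ⟨z, rfl⟩

/-- Being in the cell is checked at algebraically closed fields. -/
theorem good_of_fields
    (h : ∀ (K : Type u) [Field K] [IsAlgClosed K] (φ : A →+* K),
      D.Good (Spec.map (CommRingCat.ofHom φ) ≫ f) (φ x) (φ y)) : D.Good f x y := by
  rw [good_iff_inCell, RedR1.inCell_iff]
  rintro _ ⟨p, rfl⟩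
  let p' : PrimeSpectrum A := p
  let K := AlgebraicClosure p'.asIdeal.ResidueField
  let φ : A →+* K := (algebraMap p'.asIdeal.ResidueField K).comp (algebraMap A p'.asIdeal.ResidueField)
  have hp : PrimeSpectrum.comap φ ⟨⊥, Ideal.isPrime_bot⟩ = p' := by
    ext1
    show Ideal.comap φ ⊥ = _
    rw [← Ideal.comap_comap, Ideal.comap_bot_of_injective _ (algebraMap p'.asIdeal.ResidueField K).injective]
    exact Ideal.ker_algebraMap_residueField _
  have h1 := h K φ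
  rw [good_iff_inCell] at h1
  have hqm : D.P (tg (Spec.map (CommRingCat.ofHom φ) ≫ f) (φ x)) * D.M (tg _ (φ y)) =
      DynPar.qm φ rfl ≫ (D.P (tg f x) * D.M (tg f y)) := by
    rw [MonObj.comp_mul, comp_P, comp_M, qm_tg, qm_tg]
  rw [hqm, RedR1.inCell_iff] at h1
  have := h1 ⟨⟨⊥, Ideal.isPrime_bot⟩, rfl⟩
  have e : (DynPar.qm φ (rfl : Spec.map (CommRingCat.ofHom φ) ≫ f = _)).left ⟨⊥, Ideal.isPrime_bot⟩ = p := hp
  refine Set.mem_of_eq_of_mem ?_ this
  exact congrArg (fun z => (D.P (tg f x) * D.M (tg f y)).left z) e.symm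

end Affine

end Setup

end Groth.Agent.R1F
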