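import Groth.Agent.R1F.Field
import Groth.Agent.DynPar.Levi
import Mathlib.RingTheory.Flat.FaithfullyFlat.Algebra

/-!
# The commutation formula over a ring
-/

set_option autoImplicit false
set_option linter.style.haveILetI false
set_option backward.isDefEq.respectTransparency false
set_option maxHeartbeats 1000000
set_option synthInstance.maxHeartbeats 400000

universe u

open CategoryTheory Limits MonoidalCategory CartesianMonoidalCategory AlgebraicGeometry
open scoped CategoryTheory.Obj MonObj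

noncomputable section

namespace Groth.Agent.R1F

open Groth.Agent.DynPar LieS Groth.Agent.MTBridge

variable {S : Scheme.{u}} {G T : Over S} [GrpObj G] [GrpObj T] {D : Setup G T}

/-- A faithfully flat extension in which a fibrewise non-zero polynomial takes a unit value. -/
theorem exists_units_cover {A : Type u} [CommRing A] (h : Polynomial A)
    (hh : ∀ p : Ideal A, p.IsPrime → h.map (Ideal.Quotient.mk p) ≠ 0) :
    ∃ (A' : Type u) (_ : CommRing A') (φ : A →+* A') (c : A'), φ.Flat ∧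
      Function.Surjective (PrimeSpectrum.comap φ) ∧ Function.Injective φ ∧ IsUnit (h.eval₂ φ c) := by
  let A' := Localization.Away h
  haveI : Module.Flat (Polynomial A) A' := IsLocalization.flat A' (Submonoid.powers h)
  haveI : Module.Flat A A' := Module.Flat.trans A (Polynomial A) A'
  let φ : A →+* A' := algebraMap A A'
  have hs : Function.Surjective (PrimeSpectrum.comap φ) := fun p => by
    let χ : Polynomial A →+* Polynomial (A ⧸ p.asIdeal) := Polynomial.mapRingHom (Ideal.Quotient.mk p.asIdeal)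
    let P : PrimeSpectrum (Polynomial A) := ⟨RingHom.ker χ, RingHom.ker_isPrime χ⟩
    have hP : P ∈ Set.range (PrimeSpectrum.comap (algebraMap (Polynomial A) A')) := by
      rw [PrimeSpectrum.localization_away_comap_range A' h]
      exact hh _ p.isPrime
    obtain ⟨Q, hQ⟩ := hP
    refine ⟨Q, ?_⟩
    rw [show φ = (algebraMap (Polynomial A) A').comp Polynomial.C from
      IsScalarTower.algebraMap_eq A (Polynomial A) A', PrimeSpectrum.comap_comp_apply, hQ]
    ext q
    simp [P, χ, Ideal.Quotient.eq_zero_iff_mem]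
  have hff : Module.FaithfullyFlat A A' := Module.FaithfullyFlat.of_comap_surjective hs
  refine ⟨A', inferInstance, φ, algebraMap (Polynomial A) A' Polynomial.X, RingHom.flat_algebraMap_iff.2 inferInstance,
    hs, FaithfulSMul.algebraMap_injective A A', ?_⟩
  have e : Polynomial.eval₂ φ (algebraMap (Polynomial A) A' Polynomial.X) h = algebraMap (Polynomial A) A' h := by
    rw [show φ = (algebraMap (Polynomial A) A').comp Polynomial.C from
      IsScalarTower.algebraMap_eq A (Polynomial A) A', ← Polynomial.hom_eval₂, Polynomial.eval₂_C_X]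
  rw [e]
  exact IsLocalization.Away.algebraMap_isUnit h

theorem map_linear_ne_zero {A : Type u} [CommRing A] (p : Ideal A) [p.IsPrime] {u v : A}
    (h : u ∉ p ∨ v ∉ p) : (Polynomial.C u * Polynomial.X + Polynomial.C v).map (Ideal.Quotient.mk p) ≠ 0 := by
  intro h0
  have h1 := congrArg (fun q => q.coeff 1) h0
  have h2 := congrArg (fun q => q.coeff 0) h0
  simp [Ideal.Quotient.eq_zero_iff_mem] at h1 h2
  rcases h with h | h
  · exact h h1
  · exact h h2

namespace Setup

variable (D)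

/-- The two root groups commute on no geometric fibre. -/
def NC : Prop :=
  ∀ s : S, ∃ (X : Over (Spec (CommRingCat.of (AlgebraicClosure (S.residueField s)))))
    (x y : X ⟶ Red.bc (Red.geomPt s) (Red.Ga S)),
    (x ≫ (Over.pullback (Red.geomPt s)).map D.pp) * (y ≫ (Over.pullback (Red.geomPt s)).map D.pm) ≠
      (y ≫ (Over.pullback (Red.geomPt s)).map D.pm) * (x ≫ (Over.pullback (Red.geomPt s)).map D.pp)

variable {D} (hnc : D.NC)
include hnc

theorem slope_geom_ne_zero (s : S) : D.slope (Red.geomPt s) ≠ 0 := by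
  intro h0
  obtain ⟨X, x, y, hxy⟩ := hnc s
  obtain ⟨x', rfl⟩ := HomDiag.exists_toBC_eq (Red.geomPt s) x
  obtain ⟨y', rfl⟩ := HomDiag.exists_toBC_eq (Red.geomPt s) y
  refine hxy ?_
  rw [← toBC_comp, ← toBC_comp, ← toBC_mul, ← toBC_mul]
  congr 1
  refine hom_ext_pts _ _ fun B _ g q => ?_
  obtain ⟨φ, hφ⟩ := Spec.map_surjective (q.left ≫ X.hom)
  have hg : Spec.map (CommRingCat.ofHom φ.hom) ≫ Red.geomPt s = g := by
    rw [CommRingCat.ofHom_hom, hφ, Category.assoc]
    exact Over.w q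
  subst hg
  have h := commute_of_slope_eq_zero (D := D) (Red.geomPt s) h0 φ.hom
    ((tg (Spec.map (CommRingCat.ofHom φ.hom) ≫ Red.geomPt s)).symm (Red.gaFn (q ≫ x')))
    ((tg (Spec.map (CommRingCat.ofHom φ.hom) ≫ Red.geomPt s)).symm (Red.gaFn (q ≫ y')))
  simp only [RingEquiv.apply_symm_apply, P, M, RedR1.gaPt_gaFn, Category.assoc] at h
  simpa only [MonObj.comp_mul] using h

variable {A B : Type u} [CommRing A] [CommRing B] {f : Spec (CommRingCat.of A) ⟶ S}
  {g : Spec (CommRingCat.of B) ⟶ S}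

/-- **The constant is invertible.** -/
theorem isUnit_slope (f : Spec (CommRingCat.of A) ⟶ S) : IsUnit (D.slope f) := by
  by_contra h
  obtain ⟨m, hm, ham⟩ := exists_max_ideal_of_mem_nonunits (mem_nonunits_iff.2 h)
  let L := AlgebraicClosure m.ResidueField
  let φ : A →+* L := (algebraMap m.ResidueField L).comp (algebraMap A m.ResidueField)
  let fL : Spec (CommRingCat.of L) ⟶ S := Spec.map (CommRingCat.ofHom φ) ≫ f
  have h0 : D.slope fL = 0 := by
    rw [slope_qm φ (g := fL) rfl]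
    show algebraMap m.ResidueField L (algebraMap A m.ResidueField (D.slope f)) = 0
    rw [Ideal.algebraMap_residueField_eq_zero.2 ham, map_zero]
  let z : Spec (CommRingCat.of L) := IsLocalRing.closedPoint L
  let s : S := fL z
  let ψ : S.residueField s ⟶ CommRingCat.of L := (Scheme.SpecToEquivOfField L S fL).2
  letI : Algebra (S.residueField s) L := ψ.hom.toAlgebra
  let e : AlgebraicClosure (S.residueField s) →ₐ[S.residueField s] L := IsAlgClosed.lift
  have he : Spec.map (CommRingCat.ofHom (e : AlgebraicClosure (S.residueField s) →+* L)) ≫ Red.geomPt s = fL := by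
    have h1 : Spec.map ψ ≫ S.fromSpecResidueField s = fL := (Scheme.SpecToEquivOfField L S).symm_apply_apply fL
    rw [Red.geomPt, ← Category.assoc, ← Spec.map_comp, ← h1]
    congr 2
    exact CommRingCat.hom_ext (RingHom.ext fun a => e.commutes a)
  rw [slope_qm _ he, map_eq_zero] at h0
  exact slope_geom_ne_zero hnc s h0

theorem slope_ne_zero [Nontrivial A] (f : Spec (CommRingCat.of A) ⟶ S) : D.slope f ≠ 0 :=
  (isUnit_slope hnc f).ne_zero

/-- **The cell condition.** -/
theorem good_iff (x y : A) : D.Good f x y ↔ IsUnit (1 + D.slope f * x * y) := by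
  constructor
  · intro h
    by_contra hu
    obtain ⟨m, hm, hmem⟩ := exists_max_ideal_of_mem_nonunits (mem_nonunits_iff.2 hu)
    let L := AlgebraicClosure m.ResidueField
    let φ : A →+* L := (algebraMap m.ResidueField L).comp (algebraMap A m.ResidueField)
    have h1 := (good_iff_closed _ (slope_ne_zero hnc _) _ _).1 (h.qm φ (g := Spec.map (CommRingCat.ofHom φ) ≫ f) rfl)
    refine h1 ?_
    rw [slope_qm φ rfl, ← map_mul, ← map_mul, ← map_one φ, ← map_add]
    show algebraMap m.ResidueField L (algebraMap A m.ResidueField _) = 0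
    rw [Ideal.algebraMap_residueField_eq_zero.2 hmem, map_zero]
  · intro h
    refine good_of_fields fun K _ _ φ => (good_iff_closed _ (slope_ne_zero hnc _) _ _).2 ?_
    rw [slope_qm φ rfl, ← map_mul, ← map_mul, ← map_one φ, ← map_add]
    exact (h.map φ).ne_zero

theorem dec_one_pos {z g' b : A} {t : pt A f ⟶ T} (h : D.Dec f 1 z g' t b) :
    b * (1 + D.slope f * z) = 1 := by
  obtain ⟨w, hw⟩ := exists_isF h.good
  have := hw.eq_of_isUnit (isUnit_slope hnc f)
  obtain ⟨a', t', b', hd, hb⟩ := hw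
  rw [(h.uniq hd).2.2, ← this]
  exact hb

theorem dec_pos_unit {x y a b : A} {t : pt A f ⟶ T} (hx : IsUnit x) (h : D.Dec f x y a t b) :
    b * (1 + D.slope f * x * y) = x := by
  obtain ⟨r, rfl⟩ := hx
  have h1 := h.scale r⁻¹
  rw [inv_inv, Units.inv_mul] at h1
  have := dec_one_pos hnc h1
  linear_combination (r : A) * this - b * (1 + D.slope f * (r : A) * y) * Units.mul_inv r

theorem dec_one {z g' b : A} {t : pt A f ⟶ T} (h : D.Dec f 1 z g' t b) :
    g' * (1 + D.slope f * z) = z ∧ (D.av f t : A) = (1 + D.slope f * z) ^ 2 := by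
  set a := D.slope f with ha
  have hw : IsUnit (1 + a * z) := by
    have := (good_iff hnc 1 z).1 h.good
    rwa [mul_one] at this
  set w := 1 + a * z with hwdef
  set q := (D.av f t : A) with hq
  -- a value of the variable
  have key : ∀ {A' : Type u} [CommRing A'] (φ : A →+* A') (c : A'), IsUnit c → IsUnit (1 + c) →
      IsUnit (φ w + φ (a * z) * c) → IsUnit (1 + φ (a * g') * c) →
      φ (w * w - q) + φ (a * w * z - a * q * g') * c = 0 := by
    intro A' _ φ c hc hc1 hc2 hc3
    let f' := Spec.map (CommRingCat.ofHom φ) ≫ f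
    have hs : D.slope f' = φ a := slope_qm φ rfl
    have h' := h.qm' φ (g := f') rfl
    rw [map_one] at h'
    obtain ⟨a₂, t₂, b₂, h₂⟩ := (good_iff hnc (f := f') c (φ g')).2 (by
      rw [hs]; convert hc3 using 1; rw [map_mul]; ring)
    have e2 := dec_pos_unit hnc hc h₂
    have hb : φ b * φ w = 1 := by rw [← map_mul, dec_one_pos hnc h, map_one]
    have h3 := h'.left_of h₂
    have e3 := dec_pos_unit hnc (by rw [add_comm]; exact hc1) h3
    have hqv : φ q * (↑(D.av f' (DynPar.qm φ rfl ≫ t))⁻¹ : A') = 1 := by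
      rw [hq, ← av_qm D f φ rfl t, Units.mul_inv]
    rw [hs] at e2 e3
    refine hc.mul_right_eq_zero.1 ?_
    have hwz : φ w = 1 + φ a * φ z := by rw [hwdef]; simp
    simp only [map_sub, map_mul, hwz] at hb e2 e3 ⊢
    set qi := (↑(D.av f' (DynPar.qm φ rfl ≫ t))⁻¹ : A')
    linear_combination φ q * (1 + φ a * φ z) * (1 + φ a * c * φ g') * e3
      - (1 + φ a * φ z) * b₂ * (1 + φ a * c * φ g') * (1 + φ a * (c + 1) * φ z) * hqv
      - (1 + φ a * φ z) * (1 + φ a * (c + 1) * φ z) * e2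
      - φ q * (1 + φ a * c * φ g') * (1 + φ a * (c + 1) * φ z) * hb
  let P : Polynomial A := Polynomial.X * (Polynomial.C 1 * Polynomial.X + Polynomial.C 1) *
    (Polynomial.C (a * z) * Polynomial.X + Polynomial.C w) *
    (Polynomial.C (a * g') * Polynomial.X + Polynomial.C 1)
  have hwp : ∀ p : Ideal A, p.IsPrime → w ∉ p := fun p hp hmem => hp.ne_top (p.eq_top_of_isUnit_mem hmem hw)
  have h1p : ∀ p : Ideal A, p.IsPrime → (1 : A) ∉ p := fun p hp => (Ideal.ne_top_iff_one p).1 hp.ne_top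
  have hP : ∀ p : Ideal A, p.IsPrime → P.map (Ideal.Quotient.mk p) ≠ 0 := fun p hp => by
    haveI := hp
    simp only [P, Polynomial.map_mul, mul_ne_zero_iff]
    refine ⟨⟨⟨?_, map_linear_ne_zero p (Or.inr (h1p p hp))⟩, map_linear_ne_zero p (Or.inr (hwp p hp))⟩,
      map_linear_ne_zero p (Or.inr (h1p p hp))⟩
    rw [Polynomial.map_X]; exact Polynomial.X_ne_zero
  obtain ⟨A₁, _, φ₁, c₁, -, -, hinj₁, hu₁⟩ := exists_units_cover P hP
  simp only [P, Polynomial.eval₂_mul, Polynomial.eval₂_add, Polynomial.eval₂_X, Polynomial.eval₂_C,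
    IsUnit.mul_iff, map_one, one_mul] at hu₁
  obtain ⟨⟨⟨hc₁, hc₁1⟩, hc₁2⟩, hc₁3⟩ := hu₁
  have e₁ := key φ₁ c₁ hc₁ (by simpa [add_comm] using hc₁1) (by simpa [add_comm] using hc₁2) (by simpa [add_comm] using hc₁3)
  -- a second value, differing by a unit
  let P₁ : Polynomial A₁ := P.map φ₁ * (Polynomial.C 1 * Polynomial.X + Polynomial.C (-c₁))
  have hP₁ : ∀ p : Ideal A₁, p.IsPrime → P₁.map (Ideal.Quotient.mk p) ≠ 0 := fun p hp => by
    haveI := hp
    simp only [P₁, Polynomial.map_mul, mul_ne_zero_iff]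
    refine ⟨?_, map_linear_ne_zero p (Or.inl ((Ideal.ne_top_iff_one p).1 hp.ne_top))⟩
    simp only [P, Polynomial.map_mul, mul_ne_zero_iff, Polynomial.map_add, Polynomial.map_C, Polynomial.map_X]
    have h1 : ∀ u : A₁, (Polynomial.C (Ideal.Quotient.mk p u) * Polynomial.X +
        Polynomial.C (Ideal.Quotient.mk p 1)) ≠ 0 := fun u => by
      simpa using map_linear_ne_zero p (u := u) (v := 1) (Or.inr ((Ideal.ne_top_iff_one p).1 hp.ne_top))
    refine ⟨⟨⟨Polynomial.X_ne_zero, by simpa using h1 1⟩, ?_⟩, by simpa using h1 (φ₁ (a * g'))⟩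
    simpa using map_linear_ne_zero p (u := φ₁ (a * z)) (v := φ₁ w)
      (Or.inr fun hmem => hp.ne_top (p.eq_top_of_isUnit_mem hmem (hw.map φ₁)))
  obtain ⟨A₂, _, φ₂, c₂, -, -, hinj₂, hu₂⟩ := exists_units_cover P₁ hP₁
  simp only [P₁, P, Polynomial.eval₂_mul, Polynomial.eval₂_map, Polynomial.eval₂_add, Polynomial.eval₂_X,
    Polynomial.eval₂_C, IsUnit.mul_iff, map_one, one_mul, map_neg, Polynomial.eval₂_neg] at hu₂
  obtain ⟨⟨⟨⟨hc₂, hc₂1⟩, hc₂2⟩, hc₂3⟩, hd⟩ := hu₂
  have e₂ := key (φ₂.comp φ₁) c₂ hc₂ (by simpa [add_comm] using hc₂1) (by simpa [add_comm] using hc₂2) (by simpa [add_comm] using hc₂3)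
  have e₁' := congrArg φ₂ e₁
  simp only [map_add, map_mul, map_zero] at e₁'
  simp only [RingHom.comp_apply] at e₂
  have hd0 : φ₂ (φ₁ (a * w * z - a * q * g')) = 0 := by
    refine hd.mul_left_eq_zero.1 ?_
    linear_combination e₂ - e₁'
  have hl : a * w * z - a * q * g' = 0 := hinj₁ (hinj₂ (by rw [hd0, map_zero, map_zero]))
  have hc : w * w - q = 0 := hinj₁ (by rw [map_zero]; rw [hl, map_zero, zero_mul, add_zero] at e₁; exact e₁)
  refine ⟨?_, by linear_combination -hc⟩
  refine sub_eq_zero.1 (((isUnit_slope hnc f).mul hw).mul_right_eq_zero.1 ?_)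
  linear_combination -hl + a * g' * hc

omit hnc in
theorem eq_of_cover (φ : A →+* B) (hflat : φ.Flat) (hsurj : Function.Surjective (PrimeSpectrum.comap φ))
    (hg : Spec.map (CommRingCat.ofHom φ) ≫ f = g) {Y : Over S} (s t : pt A f ⟶ Y)
    (h : DynPar.qm φ hg ≫ s = DynPar.qm φ hg ≫ t) : s = t := by
  haveI : Flat (DynPar.qm φ hg).left := Flat.SpecMap_iff.2 hflat
  haveI : Surjective (DynPar.qm φ hg).left := ⟨hsurj⟩
  haveI := RedR1.epi_of_flat_surjective (DynPar.qm φ hg)
  exact (cancel_epi _).1 h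

theorem exists_good_one (f : Spec (CommRingCat.of A) ⟶ S) (w : Aˣ) :
    ∃ z a t b, D.Dec f 1 z a t b ∧ 1 + D.slope f * z = w := by
  obtain ⟨r, hr⟩ := isUnit_slope hnc f
  have hz : 1 + D.slope f * (↑r⁻¹ * ((w : A) - 1)) = w := by
    rw [← hr, Units.mul_inv_cancel_left]; ring
  obtain ⟨a, t, b, h⟩ := (good_iff hnc (f := f) 1 (↑r⁻¹ * ((w : A) - 1))).2 (by
    rw [mul_one, hz]; exact w.isUnit)
  exact ⟨_, a, t, b, h, hz⟩

/-- The cocharacter on affine points. -/
def cav (f : Spec (CommRingCat.of A) ⟶ S) (w : Aˣ) : pt A f ⟶ T :=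
  (exists_good_one hnc f w).choose_spec.choose_spec.choose

theorem eq_cav_one {z a b : A} {t : pt A f ⟶ T} {w : Aˣ} (h : D.Dec f 1 z a t b) (hw : 1 + D.slope f * z = w) :
    t = cav hnc f w := by
  obtain ⟨b', h', hw'⟩ := (exists_good_one hnc f w).choose_spec.choose_spec.choose_spec
  have hz : (exists_good_one hnc f w).choose = z :=
    (isUnit_slope hnc f).mul_left_cancel (by linear_combination hw' - hw)
  have key : ∀ z' a' t' b', z' = z → D.Dec f 1 z' a' t' b' → t = t' := fun _ _ _ _ e hd => by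
    subst e; exact (h.uniq hd).2.1
  exact key _ _ _ _ hz h'

theorem cav_qm (φ : A →+* B) (hφ : Spec.map (CommRingCat.ofHom φ) ≫ f = g) (w : Aˣ) :
    DynPar.qm φ hφ ≫ cav hnc f w = cav hnc g (Units.map φ.toMonoidHom w) := by
  obtain ⟨z, a, t, b, h, hw⟩ := exists_good_one hnc f w
  rw [← eq_cav_one hnc h hw]
  have h' := h.qm' φ hφ
  rw [map_one] at h'
  refine eq_cav_one hnc h' ?_
  rw [slope_qm φ hφ, ← map_mul, ← map_one φ, ← map_add, hw]
  rfl

theorem cav_mul (w w' : Aˣ) : cav hnc f (w * w') = cav hnc f w * cav hnc f w' := by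
  obtain ⟨z, a, t, b, h, hw⟩ := exists_good_one hnc f w
  obtain ⟨z', a', t', b', h', hw'⟩ := exists_good_one hnc f w'
  have hb : b * (w : A) = 1 := by rw [← hw]; exact dec_one_pos hnc h
  let r : Aˣ := Units.mkOfMulEqOne b (w : A) hb
  have h1 := h'.scale r
  rw [show (r : A) = b from rfl, mul_one, show (↑r⁻¹ : A) = w from Units.inv_eq_of_mul_eq_one_right hb] at h1
  have h2 := h.right_of h1
  rw [← eq_cav_one hnc h hw, ← eq_cav_one hnc h' hw']
  refine (eq_cav_one hnc h2 ?_).symm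
  rw [Units.val_mul]
  linear_combination hw + (w : A) * hw'

theorem av_cav (w : Aˣ) : (D.av f (cav hnc f w) : A) = (w : A) ^ 2 := by
  obtain ⟨z, a, t, b, h, hw⟩ := exists_good_one hnc f w
  rw [← eq_cav_one hnc h hw, (dec_one hnc h).2, hw]

theorem dec_unit {x y a b : A} {t : pt A f ⟶ T} (hx : IsUnit x) (h : D.Dec f x y a t b) {w : Aˣ}
    (hw : 1 + D.slope f * x * y = w) : a * w = y ∧ b * w = x ∧ t = cav hnc f w := by
  refine ⟨?_, hw ▸ dec_pos_unit hnc hx h, ?_⟩
  all_goals
    obtain ⟨r, rfl⟩ := hx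
    have h1 := h.scale r⁻¹
    rw [inv_inv, Units.inv_mul] at h1
  · have := (dec_one hnc h1).1
    rw [← hw]
    refine r.isUnit.mul_left_cancel ?_
    linear_combination this
  · exact eq_cav_one hnc h1 (by rw [← hw, mul_assoc])

/-- **The commutation formula over a ring.** -/
theorem dec_formula {x y a b : A} {t : pt A f ⟶ T} (h : D.Dec f x y a t b) {w : Aˣ}
    (hw : 1 + D.slope f * x * y = w) : a * w = y ∧ b * w = x ∧ t = cav hnc f w := by
  set s := D.slope f with hs
  have hP : ∀ p : Ideal A, p.IsPrime → ((Polynomial.C 1 * Polynomial.X + Polynomial.C 0) *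
      (Polynomial.C (-1) * Polynomial.X + Polynomial.C x) *
      (Polynomial.C (s * y) * Polynomial.X + Polynomial.C 1)).map (Ideal.Quotient.mk p) ≠ 0 := fun p hp => by
    haveI := hp
    have h1 : (1 : A) ∉ p := (Ideal.ne_top_iff_one p).1 hp.ne_top
    simp only [Polynomial.map_mul, mul_ne_zero_iff]
    exact ⟨⟨map_linear_ne_zero p (Or.inl h1), map_linear_ne_zero p (Or.inl fun hn => h1 (by simpa using p.neg_mem hn))⟩,
      map_linear_ne_zero p (Or.inr h1)⟩
  obtain ⟨A', _, φ, c, hflat, hsurj, hinj, hu⟩ := exists_units_cover _ hP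
  simp only [Polynomial.eval₂_mul, Polynomial.eval₂_add, Polynomial.eval₂_X, Polynomial.eval₂_C,
    IsUnit.mul_iff, map_one, map_zero, map_neg, one_mul, add_zero, neg_mul, Polynomial.eval₂_neg, Polynomial.eval₂_one] at hu
  obtain ⟨⟨hc, hd⟩, hu1⟩ := hu
  replace hd : IsUnit (φ x - c) := by simpa [sub_eq_add_neg, add_comm] using hd
  let f' := Spec.map (CommRingCat.ofHom φ) ≫ f
  have hsl : D.slope f' = φ s := slope_qm φ rfl
  let w' : A'ˣ := Units.map φ.toMonoidHom w
  have hw' : (w' : A') = 1 + φ s * φ x * φ y := by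
    show φ w = _
    rw [← hw]; simp
  have hu1' : IsUnit (1 + D.slope f' * c * φ y) := by
    rw [hsl]; convert hu1 using 1; rw [map_mul]; ring
  obtain ⟨a₁, t₁, b₁, h₁⟩ := (good_iff hnc (f := f') c (φ y)).2 hu1'
  obtain ⟨ea₁, eb₁, et₁⟩ := dec_unit hnc hc h₁ (w := hu1'.unit) hu1'.unit_spec.symm
  set w₁ := hu1'.unit with hw₁d
  have hw₁ : (w₁ : A') = 1 + φ s * c * φ y := by rw [hw₁d, IsUnit.unit_spec, hsl]
  let w₂ : A'ˣ := w' * w₁⁻¹
  have hw₂ : 1 + D.slope f' * (φ x - c) * a₁ = (w₂ : A') := by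
    rw [hsl]
    refine w₁.isUnit.mul_right_cancel ?_
    rw [Units.val_mul, Units.inv_mul_cancel_right, hw']
    linear_combination φ s * (φ x - c) * ea₁ + hw₁
  obtain ⟨a₂, t₂, b₂, h₂⟩ := (good_iff hnc (f := f') (φ x - c) a₁).2 (by rw [hw₂]; exact w₂.isUnit)
  obtain ⟨ea₂, eb₂, et₂⟩ := dec_unit hnc hd h₂ hw₂
  have h3 := h₁.left_of h₂
  rw [sub_add_cancel] at h3
  obtain ⟨ea, et, eb⟩ := (h.qm' φ (g := f') rfl).uniq h3
  have hw12 : (w' : A') = w₂ * w₁ := by rw [Units.val_mul, Units.inv_mul_cancel_right]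
  refine ⟨hinj ?_, hinj ?_, eq_of_cover φ hflat hsurj (g := f') rfl t _ ?_⟩
  · rw [map_mul, ea]
    show a₂ * (w' : A') = _
    rw [hw12, ← mul_assoc, ea₂, ea₁]
  · rw [map_mul, eb]
    show _ * (w' : A') = _
    have hq : (↑(D.av f' t₁)⁻¹ : A') * ((w₁ : A') * w₁) = 1 := by
      rw [← pow_two, ← av_cav hnc (f := f') w₁, ← et₁, Units.inv_mul]
    refine w₁.isUnit.mul_right_cancel ?_
    have key : (b₁ * (w₁ : A') * w') = c * w' := by rw [eb₁]
    linear_combination (b₂ * (w₂ : A')) * hq + eb₂ + key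
      + (↑(D.av f' t₁)⁻¹ : A') * b₂ * (w₁ : A') * hw12 + c * hw' - φ x * hw₁
  · rw [et, et₁, et₂, ← cav_mul, cav_qm]
    congr 1
    exact (Units.ext hw12).symm

theorem exists_dec {x y : A} {w : Aˣ} (hw : 1 + D.slope f * x * y = w) :
    D.Dec f x y (y * ↑w⁻¹) (cav hnc f w) (x * ↑w⁻¹) := by
  obtain ⟨a, t, b, h⟩ := (good_iff hnc (f := f) x y).2 (hw ▸ w.isUnit)
  obtain ⟨ea, eb, et⟩ := dec_formula hnc h hw
  rw [← et, show y * ↑w⁻¹ = a by rw [← ea, mul_assoc, Units.mul_inv, mul_one],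
      show x * ↑w⁻¹ = b by rw [← eb, mul_assoc, Units.mul_inv, mul_one]]
  exact h

end Setup

end Groth.Agent.R1F
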